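import Groth.Agent.Pic13.H970.IntForm
import Groth.Agent.Fga.IntAdd
import Groth.Agent.Dix.IdealModCartier
import Groth.Agent.Divis.EffCartier
import Groth.Agent.VarietyB.RestrSeq
import Groth.Agent.CurvesC.UnitCoh
import Groth.Agent.VarietyB.DegCartier
import Groth.Agent.S2329

/-!
# Intersection numbers on proper surfaces: the basic wrapper (K464)

`Pic X` is `Groth.Agent.Grpsch.PicGrp.Pic X` with classes `mk L hL`.

* `chi k X : Pic X → ℤ`, `chi_mk : chi k X (mk L hL) = Curv2.euler k X L`;
* `dot k X a b = chi 1 - chi a - chi b + chi (a * b)` (for all `X`), `dot_comm`, `dot_one_left/right`;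
* `intNum_two` (any modules), `intNum_eq_dot` : `FGA.intNum k X 2 ![A, B] O = dot k X (mk A _) (mk B _)`
  (`X` proper of dimension `≤ 2`);
* bilinearity (`X` proper of dimension `≤ 2`): `dot_mul_left/right`, `dot_inv_left/right`, `dot_inv_inv`,
  `dot_pow_left/right`, `dot_zpow_left/right`, `dot_prod_left/right`;
* effective Cartier ideals: `ic D hD = mk (ClSub.idealMod D) _` (the class of `O_X(-D)`), `ic_mul`, `ic_top`, `ic_pow`,
  `ic_prod`, `ic_prod_pow`;
* for any ideal `D` and any invertible `L`: `euler_quotMod_tensor :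
  euler (quotMod D ⊗ L) = euler L - euler (idealMod D ⊗ L)`;
* `intNum_idealMod` : `intNum ![idealMod D, L] O = euler (quotMod D) - euler (quotMod D ⊗ L)` (any `D`, `L` invertible),
  `dot_ic`: the same for `dot (ic D) (mk L)`;
* `isEff_iff : FGA.IsEffCartier D ↔ BlowUp.IsEffCartierIdeal D`.
-/

set_option autoImplicit false
universe u
open CategoryTheory CategoryTheory.Limits AlgebraicGeometry Opposite TopologicalSpace

namespace K464.Base

open Groth.Agent.Grpsch.PicGrp Groth.Agent.Pic13.H970.IntForm Groth.Agent.Fga.PicMon Groth.Agent.Fga.AltSum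
open Groth.Agent.Dix.IdealModCartier Groth.Agent Groth.Agent.Divis.EffCartier

/-! ### Euler characteristics on the Picard group -/

section defs

variable (k : Type u) [Field k] (X : Scheme.{u}) [X.Over (Spec (CommRingCat.of k))]

theorem euler_congr {M N : X.Modules} (e : M ≅ N) : Curv2.euler k X M = Curv2.euler k X N := by
  unfold Curv2.euler
  refine finsum_congr fun i => ?_
  rw [(hmapEquiv k X e i).finrank_eq]

/-- The Euler characteristic on classes of invertible modules. -/
noncomputable def chi : Pic X → ℤ :=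
  Quotient.lift (s := isoSetoid X) (fun L => Curv2.euler k X L.1) (fun _ _ ⟨e⟩ => euler_congr k X e)

theorem chi_mk {L : X.Modules} (hL : PicF.IsInvertible L) : chi k X (mk L hL) = Curv2.euler k X L := rfl

theorem chi_one : chi k X 1 = Curv2.euler k X (Coh.structureModule X) := rfl

/-- The intersection number of two classes. -/
noncomputable def dot (a b : Pic X) : ℤ := chi k X 1 - chi k X a - chi k X b + chi k X (a * b)

theorem dot_def (a b : Pic X) : dot k X a b = chi k X 1 - chi k X a - chi k X b + chi k X (a * b) := rfl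

theorem dot_comm (a b : Pic X) : dot k X a b = dot k X b a := by
  unfold dot; rw [mul_comm a b]; ring

theorem dot_one_left (a : Pic X) : dot k X 1 a = 0 := by
  unfold dot; rw [one_mul]; ring

theorem dot_one_right (a : Pic X) : dot k X a 1 = 0 := by
  rw [dot_comm, dot_one_left]

/-- `chi (a * b) = chi a + chi b - chi 1 + a.b`. -/
theorem chi_mul (a b : Pic X) : chi k X (a * b) = chi k X a + chi k X b - chi k X 1 + dot k X a b := by
  unfold dot; ring

end defs

/-! ### Comparison with `FGA.intNum` -/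

section proper

variable (k : Type u) [Field k] (X : Scheme.{u}) [X.Over (Spec (CommRingCat.of k))]
  [IsProper (X ↘ Spec (CommRingCat.of k))] (hdim : topologicalKrullDim X ≤ (2 : ℕ))

include k in
theorem isCoh_unit : Coh.IsCoh (Coh.structureModule X) := by
  have := Fga.IntAdd.isNoetherian k X
  exact CurvesC.UnitCoh.isCoh_unit X

include k in
theorem isCoh_of_isInvertible {L : X.Modules} (hL : PicF.IsInvertible L) : Coh.IsCoh L := by
  have := Fga.IntAdd.isNoetherian k X
  exact S2329.isCoh_of_isInvertible hL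

include hdim

theorem intNum_two (A B : X.Modules) : FGA.intNum k X 2 ![A, B] (Coh.structureModule X) =
    Curv2.euler k X (Coh.structureModule X) - Curv2.euler k X A - Curv2.euler k X B +
      Curv2.euler k X (CohB1.tensorMod A B) := by
  have h : ∀ F : X.Modules, chiCl k X 2 (Coh.structureModule X) (mc F) = Curv2.euler k X F := fun F => by
    rw [chiCl_mc, Fga.IntAdd.eulerCharLE_eq k X 2 hdim]
    exact euler_congr k X (Ega2.Tens.runit F)
  rw [intNum_eq_dSum]
  have e : (fun i => mc ((![A, B] : Fin 2 → X.Modules) i)) =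
      (Fin.cons (mc A) (Fin.cons (mc B) Fin.elim0 : Fin 1 → MC X) : Fin 2 → MC X) := by
    funext i; fin_cases i <;> rfl
  rw [e, dSum_cons, dSum_cons, dSum_cons, dSum_zero, dSum_zero, dSum_zero, dSum_zero]
  simp only [mul_one]
  rw [← mc_tensor, h, h, h, ← mc_one, h]
  ring

theorem intNum_eq_dot {A B : X.Modules} (hA : PicF.IsInvertible A) (hB : PicF.IsInvertible B) :
    FGA.intNum k X 2 ![A, B] (Coh.structureModule X) = dot k X (mk A hA) (mk B hB) := by
  rw [intNum_two k X hdim, dot_def, mk_mul_mk, chi_mk, chi_mk, chi_mk, chi_one]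

omit [X.Over (Spec (CommRingCat.of k))] [IsProper (X ↘ Spec (CommRingCat.of k))] in
theorem support_le (F : X.Modules) : topologicalKrullDim (CohB1.support F) ≤ (2 : ℕ) :=
  (Topology.IsInducing.subtypeVal.topologicalKrullDim_le).trans hdim

/-! ### Bilinearity -/

theorem dot_mul_left (a b c : Pic X) : dot k X (a * b) c = dot k X a c + dot k X b c := by
  obtain ⟨A, hA, rfl⟩ := exists_mk a
  obtain ⟨B, hB, rfl⟩ := exists_mk b
  obtain ⟨C, hC, rfl⟩ := exists_mk c
  have h := S3232.result k X 2 hdim ![C] (fun i => by fin_cases i; exact hC) A B hA hB (Coh.structureModule X)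
    (isCoh_unit k X) (support_le X hdim _)
  have e : ∀ F : X.Modules, (Fin.cons F ![C] : Fin 2 → X.Modules) = ![F, C] := fun F => rfl
  rw [e, e, e, intNum_eq_dot k X hdim hA hC, intNum_eq_dot k X hdim hB hC,
    intNum_eq_dot k X hdim (Fdesc.LocGen.isInvertible_tensorMod hA hB) hC] at h
  rw [mk_mul_mk]
  exact h

theorem dot_mul_right (a b c : Pic X) : dot k X a (b * c) = dot k X a b + dot k X a c := by
  rw [dot_comm, dot_mul_left k X hdim, dot_comm k X b, dot_comm k X c]

theorem dot_inv_left (a b : Pic X) : dot k X a⁻¹ b = - dot k X a b := by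
  have h := dot_mul_left k X hdim a a⁻¹ b
  rw [mul_inv_cancel, dot_one_left] at h
  linarith

theorem dot_inv_right (a b : Pic X) : dot k X a b⁻¹ = - dot k X a b := by
  rw [dot_comm, dot_inv_left k X hdim, dot_comm]

theorem dot_inv_inv (a b : Pic X) : dot k X a⁻¹ b⁻¹ = dot k X a b := by
  rw [dot_inv_left k X hdim, dot_inv_right k X hdim, neg_neg]

theorem dot_pow_left (a b : Pic X) (n : ℕ) : dot k X (a ^ n) b = n * dot k X a b := by
  induction n with
  | zero => rw [pow_zero, dot_one_left]; simp
  | succ n ih => rw [pow_succ, dot_mul_left k X hdim, ih]; push_cast; ring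

theorem dot_pow_right (a b : Pic X) (n : ℕ) : dot k X a (b ^ n) = n * dot k X a b := by
  rw [dot_comm, dot_pow_left k X hdim, dot_comm]

theorem dot_zpow_left (a b : Pic X) (n : ℤ) : dot k X (a ^ n) b = n * dot k X a b := by
  obtain ⟨m, rfl | rfl⟩ := n.eq_nat_or_neg
  · rw [zpow_natCast, dot_pow_left k X hdim]
  · rw [zpow_neg, zpow_natCast, dot_inv_left k X hdim, dot_pow_left k X hdim]; ring

theorem dot_zpow_right (a b : Pic X) (n : ℤ) : dot k X a (b ^ n) = n * dot k X a b := by
  rw [dot_comm, dot_zpow_left k X hdim, dot_comm]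

theorem dot_prod_left {ι : Type*} (s : Finset ι) (a : ι → Pic X) (b : Pic X) :
    dot k X (∏ i ∈ s, a i) b = ∑ i ∈ s, dot k X (a i) b := by
  classical
  induction s using Finset.induction_on with
  | empty => rw [Finset.prod_empty, Finset.sum_empty, dot_one_left]
  | insert i s hi ih => rw [Finset.prod_insert hi, Finset.sum_insert hi, dot_mul_left k X hdim, ih]

theorem dot_prod_right {ι : Type*} (s : Finset ι) (a : Pic X) (b : ι → Pic X) :
    dot k X a (∏ i ∈ s, b i) = ∑ i ∈ s, dot k X a (b i) := by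
  rw [dot_comm, dot_prod_left k X hdim]
  exact Finset.sum_congr rfl fun i _ => dot_comm k X _ _

/-- `(∏ a_i^{m_i}) . (∏ b_j^{n_j}) = ∑ m_i n_j (a_i . b_j)` -/
theorem dot_prod_zpow {ι ι' : Type*} (s : Finset ι) (t : Finset ι') (a : ι → Pic X) (b : ι' → Pic X) (m : ι → ℤ)
    (n : ι' → ℤ) : dot k X (∏ i ∈ s, a i ^ m i) (∏ j ∈ t, b j ^ n j) =
      ∑ i ∈ s, ∑ j ∈ t, m i * n j * dot k X (a i) (b j) := by
  rw [dot_prod_left k X hdim]
  refine Finset.sum_congr rfl fun i _ => ?_
  rw [dot_prod_right k X hdim]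
  refine Finset.sum_congr rfl fun j _ => ?_
  rw [dot_zpow_left k X hdim, dot_zpow_right k X hdim, mul_assoc]

end proper

/-! ### Effective Cartier ideals -/

section cartier

variable {X : Scheme.{u}}

theorem isEff_iff {D : X.IdealSheafData} : FGA.IsEffCartier D ↔ BlowUp.IsEffCartierIdeal D := Iff.rfl

/-- The class of `O_X(-D)`. -/
noncomputable def ic (D : X.IdealSheafData) (hD : BlowUp.IsEffCartierIdeal D) : Pic X :=
  mk (ClSub.idealMod D) (isInvertible_idealMod hD)

theorem ic_mul {D E : X.IdealSheafData} (hD : BlowUp.IsEffCartierIdeal D) (hE : BlowUp.IsEffCartierIdeal E) :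
    ic (D * E) (isEff_mul hD hE) = ic D hD * ic E hE := by
  unfold ic
  rw [mk_mul_mk, mk_eq_iff]
  obtain ⟨e⟩ := idealMod_mul hD hE
  exact ⟨e.symm⟩

theorem ic_congr {D E : X.IdealSheafData} (hD : BlowUp.IsEffCartierIdeal D) (hE : BlowUp.IsEffCartierIdeal E)
    (h : D = E) : ic D hD = ic E hE := by subst h; rfl

theorem ic_top : ic (⊤ : X.IdealSheafData) isEff_top = 1 := by
  have h := ic_mul (X := X) isEff_top isEff_top
  rw [ic_congr (D := (⊤ * ⊤ : X.IdealSheafData)) (isEff_mul isEff_top isEff_top) isEff_top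
    (by rw [← Scheme.IdealSheafData.one_eq_top, one_mul])] at h
  exact (mul_eq_left.mp h.symm)

theorem isEff_one : BlowUp.IsEffCartierIdeal (1 : X.IdealSheafData) := by
  rw [Scheme.IdealSheafData.one_eq_top]; exact isEff_top

theorem ic_one : ic (1 : X.IdealSheafData) isEff_one = 1 := by
  rw [ic_congr isEff_one isEff_top Scheme.IdealSheafData.one_eq_top, ic_top]

theorem ic_pow {D : X.IdealSheafData} (hD : BlowUp.IsEffCartierIdeal D) (n : ℕ) :
    ic (D ^ n) (isEff_pow hD n) = ic D hD ^ n := by
  induction n with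
  | zero => rw [ic_congr (isEff_pow hD 0) isEff_one (pow_zero D), ic_one, pow_zero]
  | succ n ih =>
    rw [ic_congr (isEff_pow hD (n + 1)) (isEff_mul (isEff_pow hD n) hD) (pow_succ D n),
      ic_mul (isEff_pow hD n) hD, ih, pow_succ]

theorem isEff_prod {ι : Type*} (s : Finset ι) (D : ι → X.IdealSheafData)
    (hD : ∀ i, BlowUp.IsEffCartierIdeal (D i)) : BlowUp.IsEffCartierIdeal (∏ i ∈ s, D i) := by
  classical
  induction s using Finset.induction_on with
  | empty => rw [Finset.prod_empty]; exact isEff_one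
  | insert a s has ih => rw [Finset.prod_insert has]; exact isEff_mul (hD a) ih

theorem ic_prod {ι : Type*} (s : Finset ι) (D : ι → X.IdealSheafData) (hD : ∀ i, BlowUp.IsEffCartierIdeal (D i)) :
    ic (∏ i ∈ s, D i) (isEff_prod s D hD) = ∏ i ∈ s, ic (D i) (hD i) := by
  classical
  induction s using Finset.induction_on with
  | empty => rw [ic_congr (isEff_prod ∅ D hD) isEff_one Finset.prod_empty, ic_one]; rfl
  | insert a s has ih =>
    rw [ic_congr (isEff_prod _ D hD) (isEff_mul (hD a) (isEff_prod s D hD)) (Finset.prod_insert has),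
      ic_mul (hD a) (isEff_prod s D hD), ih, Finset.prod_insert has]

theorem isEff_prod_pow {ι : Type*} (s : Finset ι) (D : ι → X.IdealSheafData)
    (hD : ∀ i, BlowUp.IsEffCartierIdeal (D i)) (n : ι → ℕ) : BlowUp.IsEffCartierIdeal (∏ i ∈ s, D i ^ n i) :=
  isEff_prod s _ fun i => isEff_pow (hD i) (n i)

/-- The class of `O_X(-∑ n_i D_i)`. -/
theorem ic_prod_pow {ι : Type*} (s : Finset ι) (D : ι → X.IdealSheafData) (hD : ∀ i, BlowUp.IsEffCartierIdeal (D i))
    (n : ι → ℕ) : ic (∏ i ∈ s, D i ^ n i) (isEff_prod_pow s D hD n) = ∏ i ∈ s, ic (D i) (hD i) ^ n i := by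
  rw [ic_prod s (fun i => D i ^ n i) (fun i => isEff_pow (hD i) (n i))]
  exact Finset.prod_congr rfl fun i _ => ic_pow (hD i) (n i)

/-- Inverses of the ideal module. -/
theorem mk_eq_ic_inv {D : X.IdealSheafData} {L : X.Modules} (h : ClSub.IsInverseOf L (ClSub.idealMod D))
    (hL : PicF.IsInvertible L) (hD : BlowUp.IsEffCartierIdeal D) : mk L hL = (ic D hD)⁻¹ := by
  rw [eq_inv_iff_mul_eq_one, ic, mk_mul_mk, mk_eq_one_iff]
  exact h

end cartier

/-! ### Euler characteristics on a closed subscheme -/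

section restr

variable (k : Type u) [Field k] (X : Scheme.{u}) [X.Over (Spec (CommRingCat.of k))]
  [IsProper (X ↘ Spec (CommRingCat.of k))]

include k in
theorem isCoh_idealMod (D : X.IdealSheafData) : Coh.IsCoh (ClSub.idealMod D) := by
  have := Fga.IntAdd.isNoetherian k X
  exact VarietyB.DegCartier.isCoh_idealMod D

omit [X.Over (Spec (CommRingCat.of k))] [IsProper (X ↘ Spec (CommRingCat.of k))] in
theorem isCoh_quotMod (D : X.IdealSheafData) : Coh.IsCoh (ClSub.quotMod D) :=
  VarietyB.DegCartier.isCoh_quotMod D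

omit [X.Over (Spec (CommRingCat.of k))] [IsProper (X ↘ Spec (CommRingCat.of k))] in
theorem isCoh_tensorMod {F L : X.Modules} (hF : Coh.IsCoh F) (hL : PicF.IsInvertible L) :
    Coh.IsCoh (CohB1.tensorMod F L) := Fga.TwistCoh.isCoh_tensor hF hL

/-- Additivity of the Euler characteristic in short exact sequences twisted by an invertible module. -/
theorem euler_tensor_add {S : ShortComplex X.Modules} (hS : S.ShortExact) (h₁ : Coh.IsCoh S.X₁) (h₂ : Coh.IsCoh S.X₂)
    (h₃ : Coh.IsCoh S.X₃) {L : X.Modules} (hL : PicF.IsInvertible L) :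
    Curv2.euler k X (CohB1.tensorMod S.X₂ L) =
      Curv2.euler k X (CohB1.tensorMod S.X₁ L) + Curv2.euler k X (CohB1.tensorMod S.X₃ L) := by
  have h := Fga.TwistCoh.shortExact_tensorBi hL S hS
  have hc : ∀ F : X.Modules, Coh.IsCoh F → Coh.IsCoh ((DCoh.tensorBi.obj L).obj F) := fun F hF =>
    Sga67.CohBasic.isCoh_of_iso (Ega2.Tens.swap F L) (Fga.TwistCoh.isCoh_tensor hF hL)
  have h2 := S1524.result k X _ h (hc _ h₁) (hc _ h₂) (hc _ h₃)
  have e : ∀ F : X.Modules, Curv2.euler k X (CohB1.tensorMod F L) = Curv2.euler k X ((DCoh.tensorBi.obj L).obj F) :=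
    fun F => euler_congr k X (Ega2.Tens.swap F L)
  rw [e, e, e]
  exact h2

/-- `0 → I_D ⊗ L → L → O_D ⊗ L → 0`. -/
theorem euler_quotMod_tensor (D : X.IdealSheafData) {L : X.Modules} (hL : PicF.IsInvertible L) :
    Curv2.euler k X (CohB1.tensorMod (ClSub.quotMod D) L) =
      Curv2.euler k X L - Curv2.euler k X (CohB1.tensorMod (ClSub.idealMod D) L) := by
  have h := euler_tensor_add k X (VarietyB.RestrSeq.idealSeq_shortExact D) (isCoh_idealMod k X D) (isCoh_unit k X)
    (isCoh_quotMod X D) hL
  have e : Curv2.euler k X (CohB1.tensorMod (Coh.structureModule X) L) = Curv2.euler k X L :=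
    euler_congr k X (Ega2.Tens.lunit L)
  change Curv2.euler k X (CohB1.tensorMod (Coh.structureModule X) L) =
    Curv2.euler k X (CohB1.tensorMod (ClSub.idealMod D) L) + Curv2.euler k X (CohB1.tensorMod (ClSub.quotMod D) L) at h
  rw [e] at h
  linarith

theorem euler_quotMod (D : X.IdealSheafData) :
    Curv2.euler k X (ClSub.quotMod D) = Curv2.euler k X (Coh.structureModule X) - Curv2.euler k X (ClSub.idealMod D) := by
  have h := euler_quotMod_tensor k X D (L := Coh.structureModule X) Fdesc.LocGen.isInvertible_structureModule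
  rw [euler_congr k X (Ega2.Tens.runit _), euler_congr k X (Ega2.Tens.runit (ClSub.idealMod D))] at h
  exact h

/-- `(I_D . L) = χ(O_D) - χ(O_D ⊗ L)`, for every closed subscheme `D` and `L` invertible. -/
theorem intNum_idealMod (hdim : topologicalKrullDim X ≤ (2 : ℕ)) (D : X.IdealSheafData) {L : X.Modules}
    (hL : PicF.IsInvertible L) : FGA.intNum k X 2 ![ClSub.idealMod D, L] (Coh.structureModule X) =
      Curv2.euler k X (ClSub.quotMod D) - Curv2.euler k X (CohB1.tensorMod (ClSub.quotMod D) L) := by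
  rw [intNum_two k X hdim, euler_quotMod, euler_quotMod_tensor k X D hL]
  ring

/-- `χ(O_D ⊗ L) = χ(L) - χ(I_D L)` in the Picard group. -/
theorem euler_quotMod_tensor_eq {D : X.IdealSheafData} (hD : BlowUp.IsEffCartierIdeal D) {L : X.Modules}
    (hL : PicF.IsInvertible L) : Curv2.euler k X (CohB1.tensorMod (ClSub.quotMod D) L) =
      chi k X (mk L hL) - chi k X (ic D hD * mk L hL) := by
  rw [euler_quotMod_tensor k X D hL, ic, mk_mul_mk, chi_mk, chi_mk]

theorem euler_quotMod_eq {D : X.IdealSheafData} (hD : BlowUp.IsEffCartierIdeal D) :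
    Curv2.euler k X (ClSub.quotMod D) = chi k X 1 - chi k X (ic D hD) := by
  rw [euler_quotMod k X D]; rfl

/-- The degree of `L` on an effective Cartier divisor `D` is `-(I_D . L)`. -/
theorem euler_sub_euler {D : X.IdealSheafData} (hD : BlowUp.IsEffCartierIdeal D) {L : X.Modules}
    (hL : PicF.IsInvertible L) :
    Curv2.euler k X (CohB1.tensorMod (ClSub.quotMod D) L) - Curv2.euler k X (ClSub.quotMod D) =
      - dot k X (ic D hD) (mk L hL) := by
  rw [euler_quotMod_tensor_eq k X hD hL, euler_quotMod_eq k X hD, dot_def]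
  ring

end restr

end K464.Base
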