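import Groth.Agent.Surf.K464.Curves
import Groth.Agent.S1659
import Groth.Agent.Dix.IdealQuot

/-!
# The lattice of divisors supported on finitely many curves (K464)

`C : ι → X.IdealSheafData` a finite family of integral curves, effective Cartier (`hE`), on a proper surface.

* `gram k hE i j = dot k X (ic (C i)) (ic (C j))`, `gram_comm`, `gram_nonneg` (off the diagonal), `gram_eq_intNum`.
* `cyc C n = ∏ i, C i ^ n i`, `isEff_cyc`, `cyc_add`, `cyc_single`, `cyc_zero`, `cyc_le_iff`, `cyc_eq_top_iff`,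
  `support_cyc_subset`.
* `ic_cyc`, `degOn_cyc`, `dot_cyc`.
* `exists_cyc` : effective Cartier divisors supported on `⋃ C_i` are cycles.
* `exists_split` : `D = cyc C n * J` with `J` effective Cartier without component among the `C_i`.
-/

set_option autoImplicit false
universe u
open CategoryTheory CategoryTheory.Limits AlgebraicGeometry Opposite TopologicalSpace

namespace K464.DivLat

open Groth.Agent.Grpsch.PicGrp Groth.Agent.Dix.IdealModCartier Groth.Agent Groth.Agent.Divis.EffCartier K464.Base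
  K464.Curves Groth.Agent.Divis.IdealComap Groth.Agent.Divis.CartierBasic

section cyc

variable {X : Scheme.{u}} {ι : Type*} [Fintype ι]

/-- The cycle `∑ n_i C_i`, as an ideal sheaf. -/
noncomputable def cyc (C : ι → X.IdealSheafData) (n : ι → ℕ) : X.IdealSheafData := ∏ i, C i ^ n i

variable (C : ι → X.IdealSheafData)

theorem cyc_zero : cyc C 0 = ⊤ := by
  unfold cyc
  simp_rw [Pi.zero_apply, pow_zero, Finset.prod_const_one]
  rfl

theorem cyc_add (m n : ι → ℕ) : cyc C (m + n) = cyc C m * cyc C n := by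
  unfold cyc
  rw [← Finset.prod_mul_distrib]
  exact Finset.prod_congr rfl fun i _ => by rw [Pi.add_apply, pow_add]

theorem cyc_single [DecidableEq ι] (i : ι) : cyc C (Pi.single i 1) = C i := by
  unfold cyc
  rw [Finset.prod_eq_single i]
  · simp
  · intro j _ hj; simp [Pi.single_apply, hj]
  · intro h; exact absurd (Finset.mem_univ i) h

theorem cyc_nsmul (m : ι → ℕ) (N : ℕ) : cyc C (N • m) = cyc C m ^ N := by
  induction N with
  | zero => rw [zero_smul, cyc_zero, pow_zero]; rfl
  | succ N ih => rw [succ_nsmul, cyc_add, ih, pow_succ]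

variable {C}

theorem isEff_cyc (hE : ∀ i, BlowUp.IsEffCartierIdeal (C i)) (n : ι → ℕ) : BlowUp.IsEffCartierIdeal (cyc C n) :=
  isEff_prod_pow Finset.univ C hE n

theorem ic_cyc (hE : ∀ i, BlowUp.IsEffCartierIdeal (C i)) (n : ι → ℕ) :
    ic (cyc C n) (isEff_cyc hE n) = ∏ i, ic (C i) (hE i) ^ n i := ic_prod_pow Finset.univ C hE n

theorem support_cyc_subset (n : ι → ℕ) : ((cyc C n).support : Set X) ⊆ ⋃ i, ((C i).support : Set X) := by
  intro x hx
  obtain ⟨i, -, -, hi⟩ := Dix.IdealQuot.support_prod C Finset.univ n x hx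
  exact Set.mem_iUnion.2 ⟨i, hi⟩

theorem mul_le_left (I J : X.IdealSheafData) : I * J ≤ I := by
  intro U
  rw [Scheme.IdealSheafData.ideal_mul]
  exact Ideal.mul_le_left (I := I.ideal U) (J := J.ideal U)

theorem mul_le_right' (I J : X.IdealSheafData) : I * J ≤ J := by
  intro U
  rw [Scheme.IdealSheafData.ideal_mul]
  exact Ideal.mul_le_right (I := I.ideal U) (J := J.ideal U)

theorem cyc_antitone {m n : ι → ℕ} (h : m ≤ n) : cyc C n ≤ cyc C m := by
  obtain ⟨d, rfl⟩ : ∃ d : ι → ℕ, n = m + d := ⟨fun i => n i - m i, funext fun i => (Nat.add_sub_cancel' (h i)).symm⟩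
  rw [cyc_add]
  exact mul_le_left _ _

end cyc

section stalks

variable {X : Scheme.{u}} {ι : Type*} {C : ι → X.IdealSheafData}

theorem stalkIdeal_prod (s : Finset ι) (D : ι → X.IdealSheafData) (x : X) :
    stalkIdeal (∏ i ∈ s, D i) x = ∏ i ∈ s, stalkIdeal (D i) x := by
  classical
  induction s using Finset.induction_on with
  | empty =>
    rw [Finset.prod_empty, Finset.prod_empty, Ideal.one_eq_top, Scheme.IdealSheafData.one_eq_top, stalkIdeal_top]
  | insert i s hi ih => rw [Finset.prod_insert hi, Finset.prod_insert hi, stalkIdeal_mul, ih]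

theorem stalkIdeal_eq_top {D : X.IdealSheafData} {x : X} (h : x ∉ D.support) : stalkIdeal D x = ⊤ := by
  by_contra hne
  exact h ((mem_support_iff_stalkIdeal_ne_top D x).2 hne)

variable [Fintype ι]

/-- The stalk of a cycle at a point lying on exactly one of the components. -/
theorem stalkIdeal_cyc {x : X} {i : ι} (hx : ∀ j, j ≠ i → x ∉ (C j).support) (n : ι → ℕ) :
    stalkIdeal (cyc C n) x = stalkIdeal (C i) x ^ n i := by
  classical
  unfold cyc
  rw [stalkIdeal_prod, Finset.prod_eq_single i]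
  · rw [stalkIdeal_pow]
  · intro j _ hj
    rw [stalkIdeal_pow, stalkIdeal_eq_top (hx j hj), Ideal.top_pow, Ideal.one_eq_top]
  · intro h; exact absurd (Finset.mem_univ i) h

theorem le_of_pow_le_pow {R : Type*} [CommRing R] {g : R} (hg : g ∈ nonZeroDivisors R) (hg1 : ¬ IsUnit g)
    {m n : ℕ} (h : Ideal.span {g} ^ n ≤ Ideal.span {g} ^ m) : m ≤ n := by
  by_contra hlt
  push Not at hlt
  rw [Ideal.span_singleton_pow, Ideal.span_singleton_pow, Ideal.span_singleton_le_span_singleton] at h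
  obtain ⟨c, hc⟩ := h
  obtain ⟨d, rfl⟩ : ∃ d, m = n + (d + 1) := ⟨m - n - 1, by omega⟩
  apply hg1
  have h1 : g ^ n * (1 - g ^ (d + 1) * c) = 0 := by
    rw [mul_sub, mul_one, ← mul_assoc, ← pow_add, ← hc, sub_self]
  have h2 := (mem_nonZeroDivisors_iff.1 (pow_mem hg n)).1 _ h1
  have h3 : g * (g ^ d * c) = 1 := by
    rw [pow_succ'] at h2
    linear_combination -h2
  exact IsUnit.of_mul_eq_one _ h3

omit [Fintype ι] in
theorem gp_notMem_of_ne (hC : ∀ i, IsCurve (C i)) (hinj : Function.Injective C) {i j : ι} (hij : j ≠ i) :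
    gp (hC i) ∉ (C j).support := gp_notMem (hC i) (hC j) (fun h => hij (hinj h.symm))

/-- The order on cycles is read off the coefficients. -/
theorem cyc_le_iff (hC : ∀ i, IsCurve (C i)) (hE : ∀ i, BlowUp.IsEffCartierIdeal (C i))
    (hinj : Function.Injective C) {m n : ι → ℕ} : cyc C n ≤ cyc C m ↔ m ≤ n := by
  refine ⟨fun h i => ?_, cyc_antitone⟩
  have h1 := stalkIdeal_mono h (gp (hC i))
  rw [stalkIdeal_cyc (fun j hj => gp_notMem_of_ne hC hinj hj),
    stalkIdeal_cyc (fun j hj => gp_notMem_of_ne hC hinj hj)] at h1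
  obtain ⟨g, hg, hgs⟩ := exists_stalkIdeal_eq_span (hE i) (gp (hC i))
  rw [hgs] at h1
  refine le_of_pow_le_pow hg (fun hu => ?_) h1
  have h2 := (mem_support_iff_stalkIdeal_ne_top (C i) _).1 (gp_mem (hC i))
  rw [hgs, Ideal.span_singleton_eq_top.2 hu] at h2
  exact h2 rfl

theorem cyc_injective (hC : ∀ i, IsCurve (C i)) (hE : ∀ i, BlowUp.IsEffCartierIdeal (C i))
    (hinj : Function.Injective C) {m n : ι → ℕ} (h : cyc C m = cyc C n) : m = n :=
  le_antisymm ((cyc_le_iff hC hE hinj).1 h.ge) ((cyc_le_iff hC hE hinj).1 h.le)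

theorem cyc_eq_top_iff (hC : ∀ i, IsCurve (C i)) (hE : ∀ i, BlowUp.IsEffCartierIdeal (C i))
    (hinj : Function.Injective C) {n : ι → ℕ} : cyc C n = ⊤ ↔ n = 0 := by
  constructor
  · intro h
    rw [← cyc_zero C] at h
    exact cyc_injective hC hE hinj h
  · rintro rfl; exact cyc_zero C

/-- `C_i` lies in the support of `∑ n_j C_j` iff `n_i ≠ 0`. -/
theorem gp_mem_support_cyc_iff (hC : ∀ i, IsCurve (C i)) (hinj : Function.Injective C) (n : ι → ℕ) (i : ι) :
    gp (hC i) ∈ (cyc C n).support ↔ n i ≠ 0 := by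
  constructor
  · intro h
    obtain ⟨j, -, hj, hj'⟩ := Dix.IdealQuot.support_prod C Finset.univ n _ h
    by_cases hij : j = i
    · rwa [hij] at hj
    · exact (gp_notMem_of_ne hC hinj hij hj').elim
  · intro h
    rw [mem_support_iff_stalkIdeal_ne_top, stalkIdeal_cyc (fun j hj => gp_notMem_of_ne hC hinj hj)]
    intro htop
    have h2 := (mem_support_iff_stalkIdeal_ne_top (C i) _).1 (gp_mem (hC i))
    exact h2 (top_le_iff.1 (htop ▸ Ideal.pow_le_self h))

end stalks

section exists_cyc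

variable {X : Scheme.{u}} {ι : Type*} [Fintype ι] {C : ι → X.IdealSheafData}

/-- Effective Cartier divisors supported on the curves `C_i` are cycles. -/
theorem exists_cyc [IsNoetherian X] (hC : ∀ i, IsCurve (C i)) (hE : ∀ i, BlowUp.IsEffCartierIdeal (C i))
    {Z : X.IdealSheafData} (hZ : BlowUp.IsEffCartierIdeal Z)
    (hs : (Z.support : Set X) ⊆ ⋃ i, ((C i).support : Set X)) : ∃ n : ι → ℕ, Z = cyc C n := by
  obtain ⟨a, ha⟩ := S1659.result X Z hZ (Fintype.card ι) (fun j => C ((Fintype.equivFin ι).symm j))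
    (fun j => hE _) (fun j => (hC _).integral) (by
      intro x hx
      obtain ⟨i, hi⟩ := Set.mem_iUnion.1 (hs hx)
      exact Set.mem_iUnion.2 ⟨Fintype.equivFin ι i, by simpa using hi⟩)
  refine ⟨fun i => a (Fintype.equivFin ι i), ?_⟩
  rw [ha]
  unfold cyc
  exact (Fintype.prod_equiv (Fintype.equivFin ι) _ _ (fun i => by simp)).symm

/-- Split off the curves `C_i` from an effective Cartier divisor. -/
theorem exists_split [IsLocallyNoetherian X] (hC : ∀ i, IsCurve (C i)) (hE : ∀ i, BlowUp.IsEffCartierIdeal (C i))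
    {D : X.IdealSheafData} (hD : BlowUp.IsEffCartierIdeal D) :
    ∃ (n : ι → ℕ) (J : X.IdealSheafData), BlowUp.IsEffCartierIdeal J ∧ D = cyc C n * J ∧
      ∀ i, gp (hC i) ∉ J.support := by
  classical
  obtain ⟨d, J, hJ, h1, h2⟩ := Dix.IdealQuot.exists_prod_mul C hE (fun i => gp (hC i)) (fun i => gp_mem (hC i))
    (fun i J h => (le_iff_gp_mem (hC i) J).2 h) hD Finset.univ
  exact ⟨d, J, hJ, h1, fun i => h2 i (Finset.mem_univ i)⟩

end exists_cyc

section gram

variable (k : Type u) [Field k] {X : Scheme.{u}} [X.Over (Spec (CommRingCat.of k))] {ι : Type*}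
  {C : ι → X.IdealSheafData} (hE : ∀ i, BlowUp.IsEffCartierIdeal (C i))

/-- The intersection matrix. -/
noncomputable def gram (i j : ι) : ℤ := dot k X (ic (C i) (hE i)) (ic (C j) (hE j))

theorem gram_comm (i j : ι) : gram k hE i j = gram k hE j i := dot_comm k X _ _

variable [IsProper (X ↘ Spec (CommRingCat.of k))]

theorem gram_eq_intNum (hdim : topologicalKrullDim X ≤ (2 : ℕ)) (i j : ι) :
    FGA.intNum k X 2 ![ClSub.idealMod (C i), ClSub.idealMod (C j)] (Coh.structureModule X) = gram k hE i j :=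
  intNum_eq_dot k X hdim (isInvertible_idealMod (hE i)) (isInvertible_idealMod (hE j))

theorem gram_nonneg (hC : ∀ i, IsCurve (C i)) (hinj : Function.Injective C) (i j : ι) (hij : i ≠ j) :
    0 ≤ gram k hE i j :=
  dot_ic_ic_nonneg k (hC i) (hE i) (hE j) (gp_notMem (hC i) (hC j) (fun h => hij (hinj h)))

theorem gram_eq_zero_iff (hC : ∀ i, IsCurve (C i)) (hinj : Function.Injective C) (i j : ι) (hij : i ≠ j) :
    gram k hE i j = 0 ↔ Disjoint ((C i).support : Set X) (C j).support :=
  dot_ic_ic_eq_zero_iff k (hC i) (hE i) (hE j) (gp_notMem (hC i) (hC j) (fun h => hij (hinj h)))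

theorem degOn_ic_eq_neg_gram (i j : ι) : degOn k X (C i) (ic (C j) (hE j)) = - gram k hE i j := by
  rw [degOn_eq_neg_dot k X (hE i)]; rfl

variable [Fintype ι]

theorem degOn_cyc (hdim : topologicalKrullDim X ≤ (2 : ℕ)) (n : ι → ℕ) (j : ι) :
    degOn k X (C j) (ic (cyc C n) (isEff_cyc hE n)) = - ∑ i, (n i : ℤ) * gram k hE i j := by
  rw [degOn_eq_neg_dot k X (hE j), ic_cyc hE, dot_prod_right k X hdim]
  congr 1
  refine Finset.sum_congr rfl fun i _ => ?_
  rw [dot_pow_right k X hdim, dot_comm]; rfl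

theorem dot_cyc_left (hdim : topologicalKrullDim X ≤ (2 : ℕ)) (n : ι → ℕ) (a : Pic X) :
    dot k X (ic (cyc C n) (isEff_cyc hE n)) a = ∑ i, (n i : ℤ) * dot k X (ic (C i) (hE i)) a := by
  rw [ic_cyc hE, dot_prod_left k X hdim]
  exact Finset.sum_congr rfl fun i _ => dot_pow_left k X hdim _ _ _

theorem dot_cyc_cyc (hdim : topologicalKrullDim X ≤ (2 : ℕ)) (m n : ι → ℕ) :
    dot k X (ic (cyc C m) (isEff_cyc hE m)) (ic (cyc C n) (isEff_cyc hE n)) =
      ∑ i, ∑ j, (m i : ℤ) * n j * gram k hE i j := by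
  rw [dot_cyc_left k hE hdim]
  refine Finset.sum_congr rfl fun i _ => ?_
  rw [dot_comm, dot_cyc_left k hE hdim, Finset.mul_sum]
  refine Finset.sum_congr rfl fun j _ => ?_
  rw [gram, dot_comm k X (ic (C j) (hE j))]; ring

/-- `degOn (C j) a` for `a` a product of integral powers of the `ic (C i)`. -/
theorem degOn_prod_zpow (hC : ∀ i, IsCurve (C i)) (s : ι → ℤ) (j : ι) :
    degOn k X (C j) (∏ i, ic (C i) (hE i) ^ s i) = - ∑ i, s i * gram k hE i j := by
  rw [degOn_prod k (hC j), ← Finset.sum_neg_distrib]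
  refine Finset.sum_congr rfl fun i _ => ?_
  rw [degOn_zpow k (hC j), degOn_ic_eq_neg_gram, gram_comm]; ring

end gram

end K464.DivLat
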