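import Groth.Agent.Surf.K464.Curves
import Groth.Agent.S1522
import Groth.Agent.CurvesB.CurveRR
import Groth.Agent.Dix.TwistClosed490
import Groth.Agent.Fga.HShift
import Groth.Agent.Fga.HodgeSec
import Groth.Agent.S0002
import Mathlib.CategoryTheory.Abelian.DiagramLemmas.KernelCokernelComp

/-!
# Cohomology of `O_D ⊗ L` on a proper scheme (K464)

* `hhSub D hL i : HH X (O_D ⊗ L) i ≃ₗ[k] HH D (L|_D) i`, `hhSub0`.
* `subsingleton_HH_ge_two`, `euler_quot_eq`: for `dim D ≤ 1`.
* `subsingleton_H0_of_neg` : `H^0(C, L|_C) = 0` if `deg < 0`; `subsingleton_H1_of_rational`: `H^1(C, L|_C) = 0` if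
  `H^1(O_C) = 0` and `deg ≥ -1` (`k` algebraically closed).
* `exists_seq`: `0 → O_W ⊗ I_Z ⊗ L → O_{Z W} ⊗ L → O_Z ⊗ L → 0` for `Z` effective Cartier.
-/

set_option autoImplicit false
universe u
open CategoryTheory CategoryTheory.Limits AlgebraicGeometry Opposite TopologicalSpace

namespace K464.Cohom

open Groth.Agent.Grpsch.PicGrp Groth.Agent.Dix.IdealModCartier Groth.Agent Groth.Agent.Divis.EffCartier K464.Base
open K464.Curves Groth.Agent.Dix.TwistClosed490

section Abelian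

variable {C : Type*} [Category C] [Abelian C]

/-- `0 ⟶ Y/X ⟶ Z/X ⟶ Z/Y ⟶ 0`. -/
theorem shortExact_coker {X Y Z : C} (f : X ⟶ Y) (g : Y ⟶ Z) [Mono g] :
    ∃ (a : cokernel f ⟶ cokernel (f ≫ g)) (b : cokernel (f ≫ g) ⟶ cokernel g) (w : a ≫ b = 0),
      (ShortComplex.mk a b w).ShortExact := by
  have h := kernelCokernelCompSequence_exact f g
  let a : cokernel f ⟶ cokernel (f ≫ g) := cokernel.map f (f ≫ g) (𝟙 _) g (by simp)
  let b : cokernel (f ≫ g) ⟶ cokernel g := cokernel.map (f ≫ g) g f (𝟙 _) (by simp)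
  have h2 := h.exact 2
  have h3 := h.exact 3
  have hker : IsZero (kernel g) := by
    refine (IsZero.iff_id_eq_zero _).2 ?_
    rw [← cancel_mono (kernel.ι g), kernel.ι_of_mono]
    simp
  have w : a ≫ b = 0 := h.toIsComplex.zero 3
  refine ⟨a, b, w, ?_⟩
  have hmono : Mono a := by
    have : (ShortComplex.mk (kernelCokernelCompSequence.δ f g) a (h.toIsComplex.zero 2)).Exact := h2
    exact this.mono_g (hker.eq_of_src _ _)
  have hepi : Epi b := by
    have : Epi (cokernel.π (f ≫ g) ≫ b) := by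
      have : cokernel.π (f ≫ g) ≫ b = cokernel.π g := by simp [b]
      rw [this]
      infer_instance
    exact epi_of_epi (cokernel.π (f ≫ g)) b
  exact { exact := h3, mono_f := hmono, epi_g := hepi }

end Abelian

section seq

variable {X : Scheme.{u}}

/-- `O/J` is the cokernel of `J ⟶ O`. -/
theorem nonempty_coker_iso (J : X.IdealSheafData) :
    Nonempty (cokernel (ClSub.idealModι J) ≅ ClSub.quotMod J) := by
  have h := VarietyB.DegCartier.idealSeq_shortExact J
  have := h.epi_g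
  exact ⟨(cokernelIsCokernel (ClSub.idealModι J)).coconePointUniqueUpToIso h.gIsCokernel⟩

/-- `0 ⟶ K/J ⟶ O/J ⟶ O/K ⟶ 0`. -/
theorem exists_shortExact {J K : X.IdealSheafData} (h : J ≤ K) :
    ∃ (S : ShortComplex X.Modules), S.ShortExact ∧ Nonempty (S.X₁ ≅ cokernel (incl h)) ∧
      Nonempty (S.X₂ ≅ ClSub.quotMod J) ∧ Nonempty (S.X₃ ≅ ClSub.quotMod K) := by
  obtain ⟨a, b, w, hS⟩ := shortExact_coker (incl h) (ClSub.idealModι K)
  refine ⟨_, hS, ⟨Iso.refl _⟩, ?_, nonempty_coker_iso K⟩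
  obtain ⟨e⟩ := nonempty_coker_iso J
  exact ⟨cokernelIsoOfEq (incl_ι h) ≪≫ e⟩

/-- `I_Z / I_Z I_W ≅ O_W ⊗ I_Z`. -/
theorem nonempty_coker_iso' {Z W : X.IdealSheafData} (hZ : BlowUp.IsEffCartierIdeal Z) (h : Z * W ≤ Z) :
    Nonempty (cokernel (incl h) ≅ CohB1.tensorMod (ClSub.quotMod W) (ClSub.idealMod Z)) := by
  have hk : W.subschemeι.ker = W := Scheme.IdealSheafData.ker_subschemeι W
  have h1 : Groth.Agent.Ega1.ClosedKill.Kills W.subschemeι.ker (cokernel (incl h)) := by
    rw [hk]; exact kills_cokernel h le_rfl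
  have h2 := h1.isIso_unit W.subschemeι
  obtain ⟨e⟩ := nonempty_pull_iso W.subschemeι h (by rw [hk])
  obtain ⟨e'⟩ := nonempty_iso_push X W (isInvertible_idealMod hZ)
  exact ⟨@asIso _ _ _ _ ((Scheme.Modules.pullbackPushforwardAdjunction W.subschemeι).unit.app
    (cokernel (incl h))) h2 ≪≫ (Scheme.Modules.pushforward W.subschemeι).mapIso e.symm ≪≫ e'.symm⟩

theorem mul_le_left' (Z W : X.IdealSheafData) : Z * W ≤ Z :=
  mul_le_of_le_one_right' (by rw [Scheme.IdealSheafData.one_eq_top]; exact le_top)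

/-- `0 ⟶ O_W ⊗ I_Z ⟶ O_{Z W} ⟶ O_Z ⟶ 0`. -/
theorem exists_seq₀ {Z : X.IdealSheafData} (W : X.IdealSheafData) (hZ : BlowUp.IsEffCartierIdeal Z) :
    ∃ (S : ShortComplex X.Modules), S.ShortExact ∧
      Nonempty (S.X₁ ≅ CohB1.tensorMod (ClSub.quotMod W) (ClSub.idealMod Z)) ∧
      Nonempty (S.X₂ ≅ ClSub.quotMod (Z * W)) ∧ Nonempty (S.X₃ ≅ ClSub.quotMod Z) := by
  obtain ⟨S, hS, ⟨e1⟩, e2, e3⟩ := exists_shortExact (mul_le_left' Z W)
  obtain ⟨e⟩ := nonempty_coker_iso' (W := W) hZ (mul_le_left' Z W)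
  exact ⟨S, hS, ⟨e1 ≪≫ e⟩, e2, e3⟩

/-- `0 ⟶ O_W ⊗ (I_Z ⊗ L) ⟶ O_{Z W} ⊗ L ⟶ O_Z ⊗ L ⟶ 0`. -/
theorem exists_seq {Z : X.IdealSheafData} (W : X.IdealSheafData) (hZ : BlowUp.IsEffCartierIdeal Z)
    {L : X.Modules} (hL : PicF.IsInvertible L) :
    ∃ (S : ShortComplex X.Modules), S.ShortExact ∧
      Nonempty (S.X₁ ≅ CohB1.tensorMod (ClSub.quotMod W) (CohB1.tensorMod (ClSub.idealMod Z) L)) ∧
      Nonempty (S.X₂ ≅ CohB1.tensorMod (ClSub.quotMod (Z * W)) L) ∧
      Nonempty (S.X₃ ≅ CohB1.tensorMod (ClSub.quotMod Z) L) := by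
  obtain ⟨S, hS, ⟨e1⟩, ⟨e2⟩, ⟨e3⟩⟩ := exists_seq₀ W hZ
  refine ⟨S.map (DCoh.tensorBi.obj L), Fga.TwistCoh.shortExact_tensorBi hL S hS, ⟨?_⟩, ⟨?_⟩, ⟨?_⟩⟩
  · exact Ega2.Tens.swap L S.X₁ ≪≫ Ega2.Tens.mapTIso e1 (Iso.refl L) ≪≫ Ega2.Tens.assoc _ _ _
  · exact Ega2.Tens.swap L S.X₂ ≪≫ Ega2.Tens.mapTIso e2 (Iso.refl L)
  · exact Ega2.Tens.swap L S.X₃ ≪≫ Ega2.Tens.mapTIso e3 (Iso.refl L)

end seq

section coh

variable (k : Type u) [Field k] {X : Scheme.{u}} [X.Over (Spec (CommRingCat.of k))]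

/-- Cohomology of `O_D ⊗ L`. -/
noncomputable def hhSub (D : X.IdealSheafData) {L : X.Modules} (hL : PicF.IsInvertible L) (i : ℕ) :
    letI := overC k X D
    Coh.HH X (CohB1.tensorMod (ClSub.quotMod D) L) i ≃ₗ[k]
      Coh.HH D.subscheme ((Scheme.Modules.pullback D.subschemeι).obj L) i :=
  letI := overC k X D
  (Fga.PicMon.hmapEquiv k X (nonempty_iso_push X D hL).some i).trans
    (CurvesC.CurveNum.hhPushₗ k D.subschemeι rfl _ i).symm

/-- Cohomology of `O_D`. -/
noncomputable def hhSub0 (D : X.IdealSheafData) (i : ℕ) :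
    letI := overC k X D
    Coh.HH X (ClSub.quotMod D) i ≃ₗ[k] Coh.HH D.subscheme (Coh.structureModule D.subscheme) i :=
  letI := overC k X D
  (CurvesC.CurveNum.hhPushₗ k D.subschemeι rfl _ i).symm

theorem hh_congr {M N : X.Modules} (e : M ≅ N) (i : ℕ) (h : Subsingleton (Coh.HH X N i)) :
    Subsingleton (Coh.HH X M i) :=
  (subsingleton_HH_of_iso e.symm i h)

theorem finrank_congr {M N : X.Modules} (e : M ≅ N) (i : ℕ) :
    Module.finrank k (Coh.HH X M i) = Module.finrank k (Coh.HH X N i) :=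
  (Fga.PicMon.hmapEquiv k X e i).finrank_eq

variable [IsProper (X ↘ Spec (CommRingCat.of k))]

theorem finite_HH {M : X.Modules} (hM : Coh.IsCoh M) (i : ℕ) : Module.Finite k (Coh.HH X M i) := by
  have := Fga.IntAdd.isNoetherian k X
  exact S0002.result k X M hM i

include k in
/-- Vanishing above the dimension. -/
theorem subsingleton_HH_gt {d : ℕ} (D : X.IdealSheafData) (hd : topologicalKrullDim (D.support : Set X) ≤ d)
    {L : X.Modules} (hL : PicF.IsInvertible L) (i : ℕ) (hi : d < i) :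
    Subsingleton (Coh.HH X (CohB1.tensorMod (ClSub.quotMod D) L) i) := by
  letI := overC k X D
  have := isProper_sub k X D
  have := Fga.IntAdd.isNoetherian k D.subscheme
  have : TopologicalSpace.NoetherianSpace D.subscheme.toTopCat :=
    inferInstanceAs (TopologicalSpace.NoetherianSpace D.subscheme)
  have h1 : Subsingleton (Coh.HH D.subscheme ((Scheme.Modules.pullback D.subschemeι).obj L) i) :=
    S0458.result (X := D.subscheme.toTopCat) d ((dim_sub X D).le.trans hd) (Coh.toAb _) i hi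
  exact (hhSub k D hL i).toEquiv.subsingleton

include k in
theorem subsingleton_HH0_gt {d : ℕ} (D : X.IdealSheafData) (hd : topologicalKrullDim (D.support : Set X) ≤ d)
    (i : ℕ) (hi : d < i) : Subsingleton (Coh.HH X (ClSub.quotMod D) i) :=
  subsingleton_HH_of_iso (Ega2.Tens.runit _) i
    (subsingleton_HH_gt k D hd (L := Coh.structureModule X) Fdesc.LocGen.isInvertible_structureModule i hi)

/-- `χ = h⁰ - h¹` on a subscheme of dimension at most one. -/
theorem euler_quot_tensor_eq (D : X.IdealSheafData) (hd : topologicalKrullDim (D.support : Set X) ≤ 1)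
    {L : X.Modules} (hL : PicF.IsInvertible L) :
    Curv2.euler k X (CohB1.tensorMod (ClSub.quotMod D) L) =
      (Module.finrank k (Coh.HH X (CohB1.tensorMod (ClSub.quotMod D) L) 0) : ℤ) -
        Module.finrank k (Coh.HH X (CohB1.tensorMod (ClSub.quotMod D) L) 1) := by
  have hv : ∀ i, 2 ≤ i → Subsingleton (Coh.HH X (CohB1.tensorMod (ClSub.quotMod D) L) i) := fun i hi =>
    subsingleton_HH_gt k (d := 1) D (by exact_mod_cast hd) hL i (by omega)
  rw [VarietyA.EulerAdd.euler_eq_sum k _ 2 hv]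
  rw [Finset.sum_range_succ, Finset.sum_range_one]
  ring

theorem euler_quot_eq (D : X.IdealSheafData) (hd : topologicalKrullDim (D.support : Set X) ≤ 1) :
    Curv2.euler k X (ClSub.quotMod D) =
      (Module.finrank k (Coh.HH X (ClSub.quotMod D) 0) : ℤ) - Module.finrank k (Coh.HH X (ClSub.quotMod D) 1) := by
  have h := euler_quot_tensor_eq k D hd (L := Coh.structureModule X) Fdesc.LocGen.isInvertible_structureModule
  rwa [euler_congr k X (Ega2.Tens.runit _), finrank_congr k (Ega2.Tens.runit _) 0,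
    finrank_congr k (Ega2.Tens.runit _) 1] at h

/-- `H⁰(C, L|_C) = 0` if the degree is negative. -/
theorem subsingleton_H0_of_neg {C : X.IdealSheafData} (hC : IsCurve C) {L : X.Modules} (hL : PicF.IsInvertible L)
    (hdeg : degOn k X C (mk L hL) < 0) : Subsingleton (Coh.HH X (CohB1.tensorMod (ClSub.quotMod C) L) 0) := by
  letI := overC k X C
  have := isProper_sub k X C
  have := hC.integral
  have hd : topologicalKrullDim C.subscheme = 1 := (dim_sub X C).trans hC.dim
  have h1 : Subsingleton (Coh.HH C.subscheme ((Scheme.Modules.pullback C.subschemeι).obj L) 0) := by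
    by_contra hne
    rw [not_subsingleton_iff_nontrivial] at hne
    have := Fga.HodgeSec.finite_HH k (Fdesc.LocGen.isInvertible_pullback C.subschemeι hL) 0
    obtain ⟨s, hs⟩ := Fga.HodgeSec.exists_section k (Module.finrank_pos (R := k)
      (M := Coh.HH C.subscheme ((Scheme.Modules.pullback C.subschemeι).obj L) 0))
    have h2 := S1518.result k C.subscheme hd _ (Fdesc.LocGen.isInvertible_pullback _ hL) s hs
    rw [← degOn_eq_deg k X C hL] at h2
    linarith
  exact (hhSub k C hL 0).toEquiv.subsingleton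

/-- `H¹(C, L|_C) = 0` if `H¹(O_C) = 0` and the degree is at least `-1`. -/
theorem subsingleton_H1_of_rational [IsAlgClosed k] {C : X.IdealSheafData} (hC : IsCurve C)
    (hC1 : Subsingleton (Coh.HH X (ClSub.quotMod C) 1)) {L : X.Modules} (hL : PicF.IsInvertible L)
    (hdeg : -1 ≤ degOn k X C (mk L hL)) : Subsingleton (Coh.HH X (CohB1.tensorMod (ClSub.quotMod C) L) 1) := by
  letI := overC k X C
  have := isProper_sub k X C
  have := hC.integral
  have hd : topologicalKrullDim C.subscheme = 1 := (dim_sub X C).trans hC.dim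
  have hg : Curv2.genus k C.subscheme = 0 := by
    have h2 : Subsingleton (Coh.HH C.subscheme (Coh.structureModule C.subscheme) 1) :=
      (hhSub0 k C 1).symm.toEquiv.subsingleton
    exact Module.finrank_zero_of_subsingleton
  have h1 : Subsingleton (Coh.HH C.subscheme ((Scheme.Modules.pullback C.subschemeι).obj L) 1) := by
    refine S1522.result k C.subscheme hd _ (Fdesc.LocGen.isInvertible_pullback _ hL) ?_
    rw [← degOn_eq_deg k X C hL, hg]
    push_cast
    linarith
  exact (hhSub k C hL 1).toEquiv.subsingleton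

end coh

end K464.Cohom
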