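import Groth.Agent.Surf.K464.DivLat
import Groth.Agent.CycA.ClosurePt
import Groth.Agent.Divis.EffIntegral
import Groth.Agent.Divis.ColonIdeal
import Groth.Agent.CurvesB.CurveRR

/-!
# Components of effective Cartier divisors on a surface (K464)

* `exists_curve` : the integral curve with a given generic point (of codimension one).
* `exists_curve_le` : through every point of an effective Cartier divisor `F` there is a curve `C` with `F ≤ C`.
* `eff_induction` : induction on effective Cartier divisors, `P ⊤` and `P F → P (C * F)`.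
* `exists_eq_cyc` : every effective Cartier divisor is `∏ C_i ^ n_i` for finitely many distinct curves.
* `degOn_eff_mul`, `degOn_nonneg_of_forall`, `degOn_pos_of_ample_eff`.
-/

set_option autoImplicit false
universe u
open CategoryTheory CategoryTheory.Limits AlgebraicGeometry Opposite TopologicalSpace

namespace K464.Comp

open Groth.Agent.Grpsch.PicGrp Groth.Agent.Dix.IdealModCartier Groth.Agent Groth.Agent.Divis.EffCartier K464.Base
  K464.Curves Groth.Agent.Divis.IdealComap Groth.Agent.Divis.CartierBasic K464.DivLat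

variable {k : Type u} [Field k] {X : Scheme.{u}}

/-- The curve with a given generic point of codimension one. -/
theorem exists_curve (f : X ⟶ Spec (CommRingCat.of k)) [LocallyOfFiniteType f] [IsIntegral X]
    (hdim : topologicalKrullDim X = 2) (x : X) (hx : ringKrullDim (X.presheaf.stalk x) = 1) :
    ∃ (C : X.IdealSheafData) (hC : IsCurve C), gp hC = x := by
  obtain ⟨Z, i, hi, hZ, h1, h2⟩ := CycA.ClosurePt.exists_closure_subscheme x
  have e : Z ≅ i.ker.subscheme := asIso i.toImage
  have : Nonempty i.ker.subscheme := ⟨e.hom (genericPoint Z)⟩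
  have hCi : IsIntegral i.ker.subscheme := isIntegral_of_isOpenImmersion e.inv
  have hs : (i.ker.support : Set X) = closure {x} := by
    rw [Scheme.Hom.support_ker, h2]
    exact closure_closure
  have hC : IsCurve i.ker := ⟨hCi, by
    rw [hs]
    obtain ⟨a, t, n, h3, -, h5, h6, h7⟩ := CycA.IntLocal.exists_dims f x
    rw [h5]
    rw [hdim] at h6
    rw [hx] at h3
    have ha : a = 1 := by exact_mod_cast h3.symm
    have hn : n = 2 := by exact_mod_cast h6.symm
    have ht : t = 1 := by omega
    rw [ht]; rfl⟩
  refine ⟨i.ker, hC, ?_⟩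
  have h3 : closure {gp hC} = closure {x} := by rw [closure_gp hC, hs]
  exact (inseparable_iff_closure_eq.2 h3).eq

/-- Through every point of an effective Cartier divisor there is a curve contained in it. -/
theorem exists_curve_le (f : X ⟶ Spec (CommRingCat.of k)) [LocallyOfFiniteType f] [IsIntegral X]
    (hdim : topologicalKrullDim X = 2) {F : X.IdealSheafData} (hF : BlowUp.IsEffCartierIdeal F) (x : X)
    (hx : x ∈ F.support) : ∃ C : X.IdealSheafData, IsCurve C ∧ F ≤ C ∧ x ∈ C.support := by
  have : IsLocallyNoetherian X := LocallyOfFiniteType.isLocallyNoetherian f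
  obtain ⟨ξ, hξ, hξx, hgen⟩ := Divis.EffIntegral.exists_generic F hx
  obtain ⟨g, hg, h⟩ := exists_stalkIdeal_eq_span hF ξ
  have h1 := Divis.CartierDim.ringKrullDim_stalk_le_one F ξ hξ hgen g h
  have h2 : ringKrullDim (X.presheaf.stalk ξ) = 1 := by
    refine le_antisymm h1 ?_
    by_contra hlt
    have h3 : ringKrullDim (X.presheaf.stalk ξ) ≤ 0 := by
      rw [not_le, ← IsLocalRing.maximalIdeal_height_eq_ringKrullDim] at hlt
      rw [← IsLocalRing.maximalIdeal_height_eq_ringKrullDim]
      have h3 : (IsLocalRing.maximalIdeal (X.presheaf.stalk ξ)).height < 1 := by exact_mod_cast hlt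
      rw [ENat.lt_one_iff_eq_zero] at h3
      rw [h3]; rfl
    have h4 : Ring.KrullDimLE 0 (X.presheaf.stalk ξ) := (Ring.krullDimLE_iff).2 (by exact_mod_cast h3)
    have h5 : IsField (X.presheaf.stalk ξ) := Ring.KrullDimLE.isField_of_isDomain
    have h6 : stalkIdeal F ξ ≠ ⊤ := (mem_support_iff_stalkIdeal_ne_top F ξ).1 hξ
    apply h6
    rw [h, Ideal.span_singleton_eq_top]
    letI := h5.toField
    exact IsUnit.mk0 g (nonZeroDivisors.ne_zero hg)
  obtain ⟨C, hC, hgp⟩ := exists_curve f hdim ξ h2
  refine ⟨C, hC, (le_iff_gp_mem hC F).2 (by rw [hgp]; exact hξ), ?_⟩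
  have h3 := closure_gp hC
  rw [hgp] at h3
  change x ∈ (C.support : Set X)
  rw [← h3]
  exact hξx.mem_closure

section ind

variable (k) in
/-- Induction on effective Cartier divisors of a regular surface: add integral curves one at a time. -/
theorem eff_induction (f : X ⟶ Spec (CommRingCat.of k)) [LocallyOfFiniteType f] [IsIntegral X] [IsNoetherian X]
    (hdim : topologicalKrullDim X = 2) (hreg : ∀ x : X, IsRegularLocalRing (X.presheaf.stalk x))
    {P : X.IdealSheafData → Prop} (h0 : P ⊤)
    (h1 : ∀ C F : X.IdealSheafData, IsCurve C → BlowUp.IsEffCartierIdeal C → BlowUp.IsEffCartierIdeal F → P F →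
      P (C * F)) (F : X.IdealSheafData) (hF : BlowUp.IsEffCartierIdeal F) : P F := by
  have hwf : WellFoundedGT X.IdealSheafData := Groth.Agent.Divis.ColonIdeal.wellFoundedGT
  induction F using WellFoundedGT.induction with
  | ind F ih =>
    by_cases hF0 : (F.support : Set X).Nonempty
    · obtain ⟨x, hx⟩ := hF0
      obtain ⟨C, hC, hle, hxC⟩ := exists_curve_le f hdim hF x hx
      have hCe := isEff_of_isCurve k f hdim hreg hC
      obtain ⟨L, hL, hmul⟩ := Divis.ColonIdeal.exists_mul_eq hCe hF hle
      have h4 : F ≤ L := by rw [← hmul]; exact mul_le_right' _ _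
      have h5 : L ≠ F := Divis.EffIntegral.ne_of_mul_eq hL hmul ⟨x, hxC⟩
      rw [← hmul]
      exact h1 C L hC hCe hL (ih L (lt_of_le_of_ne h4 h5.symm) hL)
    · have h1 : F.support = ⊥ := by
        apply TopologicalSpace.Closeds.ext
        rw [Set.not_nonempty_iff_eq_empty.1 hF0]
        rfl
      rw [Scheme.IdealSheafData.support_eq_bot_iff] at h1
      rw [h1]; exact h0

variable (k) in
/-- Every effective Cartier divisor on a regular surface is a combination of finitely many distinct curves. -/
theorem exists_eq_prod (f : X ⟶ Spec (CommRingCat.of k)) [LocallyOfFiniteType f] [IsIntegral X] [IsNoetherian X]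
    (hdim : topologicalKrullDim X = 2) (hreg : ∀ x : X, IsRegularLocalRing (X.presheaf.stalk x))
    (F : X.IdealSheafData) (hF : BlowUp.IsEffCartierIdeal F) :
    ∃ (s : Finset X.IdealSheafData) (n : X.IdealSheafData → ℕ), (∀ C ∈ s, IsCurve C) ∧ (∀ C ∈ s, 0 < n C) ∧
      F = ∏ C ∈ s, C ^ n C := by
  classical
  refine eff_induction k f hdim hreg (P := fun F => ∃ (s : Finset X.IdealSheafData) (n : X.IdealSheafData → ℕ),
    (∀ C ∈ s, IsCurve C) ∧ (∀ C ∈ s, 0 < n C) ∧ F = ∏ C ∈ s, C ^ n C) ?_ ?_ F hF
  · exact ⟨∅, fun _ => 0, by simp, by simp, by simp⟩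
  · rintro C F hC - - ⟨s, n, h1, h2, rfl⟩
    by_cases hCs : C ∈ s
    · refine ⟨s, Function.update n C (n C + 1), h1, fun D hD => ?_, ?_⟩
      · by_cases hDC : D = C
        · subst hDC; simp
        · rw [Function.update_of_ne hDC]; exact h2 D hD
      · rw [← Finset.mul_prod_erase s _ hCs, ← Finset.mul_prod_erase s _ hCs, Function.update_self, pow_succ',
          mul_assoc]
        congr 2
        refine Finset.prod_congr rfl fun D hD => ?_
        rw [Function.update_of_ne (Finset.ne_of_mem_erase hD)]
    · refine ⟨insert C s, Function.update n C 1, fun D hD => ?_, fun D hD => ?_, ?_⟩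
      · rcases Finset.mem_insert.1 hD with rfl | hD
        · exact hC
        · exact h1 D hD
      · rcases Finset.mem_insert.1 hD with rfl | hD
        · simp
        · rw [Function.update_of_ne (fun h : D = C => hCs (h ▸ hD))]; exact h2 D hD
      · rw [Finset.prod_insert hCs, Function.update_self, pow_one]
        congr 1
        refine Finset.prod_congr rfl fun D hD => ?_
        rw [Function.update_of_ne (fun h : D = C => hCs (h ▸ hD))]

variable (k) in
/-- `exists_eq_prod` in terms of `cyc`. -/
theorem exists_eq_cyc (f : X ⟶ Spec (CommRingCat.of k)) [LocallyOfFiniteType f] [IsIntegral X] [IsNoetherian X]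
    (hdim : topologicalKrullDim X = 2) (hreg : ∀ x : X, IsRegularLocalRing (X.presheaf.stalk x))
    (F : X.IdealSheafData) (hF : BlowUp.IsEffCartierIdeal F) :
    ∃ (r : ℕ) (C : Fin r → X.IdealSheafData) (n : Fin r → ℕ), (∀ i, IsCurve (C i)) ∧ Function.Injective C ∧
      (∀ i, 0 < n i) ∧ F = cyc C n := by
  obtain ⟨s, n, h1, h2, h3⟩ := exists_eq_prod k f hdim hreg F hF
  refine ⟨s.card, fun i => (s.equivFin.symm i).1, fun i => n (s.equivFin.symm i).1, fun i => h1 _ (s.equivFin.symm i).2,
    fun i j hij => s.equivFin.symm.injective (Subtype.ext hij), fun i => h2 _ (s.equivFin.symm i).2, ?_⟩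
  rw [h3, ← Finset.prod_coe_sort s (fun C => C ^ n C)]
  unfold cyc
  exact Fintype.prod_equiv s.equivFin _ _ (fun i => by simp)

end ind

section deg

variable (k) [X.Over (Spec (CommRingCat.of k))] [IsProper (X ↘ Spec (CommRingCat.of k))]

/-- Additivity of the degree on effective Cartier divisors. -/
theorem degOn_eff_mul (hdim : topologicalKrullDim X ≤ (2 : ℕ)) {D E : X.IdealSheafData}
    (hD : BlowUp.IsEffCartierIdeal D) (hE : BlowUp.IsEffCartierIdeal E) (a : Pic X) :
    degOn k X (D * E) a = degOn k X D a + degOn k X E a := by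
  rw [degOn_eq_neg_dot k X (isEff_mul hD hE), degOn_eq_neg_dot k X hD, degOn_eq_neg_dot k X hE, ic_mul hD hE,
    dot_mul_left k X hdim]
  ring

theorem degOn_top (a : Pic X) : degOn k X (⊤ : X.IdealSheafData) a = 0 := by
  rw [degOn_eq_neg_dot k X isEff_top, ic_top, dot_one_left, neg_zero]

variable [Smooth (X ↘ Spec (CommRingCat.of k))] [IsIntegral X] (hdim : topologicalKrullDim X = 2)

include hdim

/-- A class of nonnegative degree on every curve has nonnegative degree on every effective Cartier divisor. -/
theorem degOn_nonneg_of_forall {a : Pic X} (ha : ∀ C : X.IdealSheafData, IsCurve C → 0 ≤ degOn k X C a)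
    {F : X.IdealSheafData} (hF : BlowUp.IsEffCartierIdeal F) : 0 ≤ degOn k X F a := by
  have : IsNoetherian X := CurvesB.CurveRR.isNoetherian_of_proper k X
  refine eff_induction k (X ↘ Spec (CommRingCat.of k)) hdim (fun x => S1535.result k X x)
    (P := fun F => BlowUp.IsEffCartierIdeal F → 0 ≤ degOn k X F a) ?_ ?_ F hF hF
  · intro _; rw [degOn_top]
  · intro C F hC hCe hFe ih _
    rw [degOn_eff_mul k hdim.le hCe hFe]
    exact add_nonneg (ha C hC) (ih hFe)

/-- An ample class has positive degree on every nonzero effective Cartier divisor. -/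
theorem degOn_pos_of_ample_eff {L : X.Modules} (hL : PicF.IsInvertible L) (hamp : CohB1.IsAmple L)
    {F : X.IdealSheafData} (hF : BlowUp.IsEffCartierIdeal F) (hne : F ≠ ⊤) : 0 < degOn k X F (mk L hL) := by
  have : IsNoetherian X := CurvesB.CurveRR.isNoetherian_of_proper k X
  refine eff_induction k (X ↘ Spec (CommRingCat.of k)) hdim (fun x => S1535.result k X x)
    (P := fun F => BlowUp.IsEffCartierIdeal F → F ≠ ⊤ → 0 < degOn k X F (mk L hL)) ?_ ?_ F hF hF hne
  · intro _ h; exact absurd rfl h
  · intro C F hC hCe hFe ih _ _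
    rw [degOn_eff_mul k hdim.le hCe hFe]
    have h1 := degOn_pos_of_ample k hC hL hamp
    by_cases hF' : F = ⊤
    · rw [hF', degOn_top]; linarith
    · have := ih hFe hF'; linarith

end deg

end K464.Comp
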