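import Mathlib.Tactic
import Mathlib.Algebra.Order.BigOperators.Group.Finset
import Mathlib.LinearAlgebra.Matrix.ToLinearEquiv
import Mathlib.LinearAlgebra.Matrix.Nondegenerate

/-!
# Linear algebra of negative definite configurations (K464)

`G : ι → ι → ℤ` is a symmetric matrix with nonnegative off-diagonal entries (the intersection matrix of curves `C_i`),
`Z.C_j` is `∑ i, z i * G i j`.

* `nonneg_of_row_nonpos` : negative definite and `S.C_j ≤ 0` for all `j` imply `S ≥ 0`.
* `exists_row_neg` : `Z > 0` implies `Z.C_i < 0` for some `i` with `z i > 0`.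
* `pos_of_connected` : `Z ≥ 0`, `Z ≠ 0`, `Z.C_j ≤ 0` for all `j` and connectedness imply `z i > 0` for all `i`.
* `negDef_of_pos_vector` : connected, `z > 0`, `Z.C_j ≤ 0` for all `j` with a strict inequality imply negative definiteness.
* `exists_orthogonal` : solve `∑ i, s i * G i j = - N * t j` in integers with `N > 0`.
* `Chain G z`, `exists_chain`: Laufer's computation sequences.
-/

set_option autoImplicit false

namespace K464.NegDef

variable {ι : Type*} [Fintype ι]

/-- `G` is negative definite on integral vectors. -/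
def IsNegDef (G : ι → ι → ℤ) : Prop := ∀ a : ι → ℤ, a ≠ 0 → ∑ i, ∑ j, a i * a j * G i j < 0

/-- No partition of the index set in two orthogonal nonempty parts. -/
def IsConn [DecidableEq ι] (G : ι → ι → ℤ) : Prop :=
  ∀ S : Finset ι, S.Nonempty → Sᶜ.Nonempty → ∃ i ∈ S, ∃ j ∈ Sᶜ, G i j ≠ 0

theorem sum_eq_sum_row (G : ι → ι → ℤ) (a b : ι → ℤ) :
    ∑ i, ∑ j, a i * b j * G i j = ∑ j, b j * ∑ i, a i * G i j := by
  rw [Finset.sum_comm]
  refine Finset.sum_congr rfl fun j _ => ?_
  rw [Finset.mul_sum]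
  exact Finset.sum_congr rfl fun i _ => by ring

/-- If `S.C_j ≤ 0` for all `j` then `S ≥ 0`. -/
theorem nonneg_of_row_nonpos {G : ι → ι → ℤ} (hoff : ∀ i j, i ≠ j → 0 ≤ G i j) (hneg : IsNegDef G)
    (s : ι → ℤ) (hs : ∀ j, ∑ i, s i * G i j ≤ 0) (i : ι) : 0 ≤ s i := by
  set n : ι → ℤ := fun i => max (-s i) 0 with hn
  have hn0 : ∀ i, 0 ≤ n i := fun i => le_max_right _ _
  by_cases h : n = 0
  · have := congrFun h i
    simp only [hn, Pi.zero_apply] at this
    have h2 : -s i ≤ 0 := by rw [← this]; exact le_max_left _ _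
    linarith
  · exfalso
    have h1 := hneg n h
    have h2 : ∑ j, n j * ∑ i, s i * G i j ≤ 0 :=
      Finset.sum_nonpos fun j _ => mul_nonpos_of_nonneg_of_nonpos (hn0 j) (hs j)
    rw [← sum_eq_sum_row] at h2
    have h3 : ∀ i j, - (n i * n j * G i j) ≤ s i * n j * G i j := by
      intro i j
      by_cases hij : i = j
      · subst hij
        have h4 : (s i + n i) * n i = 0 := by
          simp only [hn]
          rcases le_total (-s i) 0 with h | h
          · rw [max_eq_right h, mul_zero]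
          · rw [max_eq_left h]; ring
        have h5 : s i * n i * G i i = - (n i * n i * G i i) := by
          have : (s i + n i) * n i * G i i = 0 := by rw [h4, zero_mul]
          linarith
        exact h5.ge
      · have h4 : 0 ≤ s i + n i := by
          have := le_max_left (-s i) 0
          simp only [hn]
          linarith
        have h5 : 0 ≤ (s i + n i) * n j * G i j := mul_nonneg (mul_nonneg h4 (hn0 j)) (hoff i j hij)
        linarith
    have h4 : ∑ i, ∑ j, - (n i * n j * G i j) ≤ ∑ i, ∑ j, s i * n j * G i j :=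
      Finset.sum_le_sum fun i _ => Finset.sum_le_sum fun j _ => h3 i j
    simp only [Finset.sum_neg_distrib] at h4
    linarith

/-- A nonzero effective combination has negative intersection with one of its components. -/
theorem exists_row_neg {G : ι → ι → ℤ} (hneg : IsNegDef G) (z : ι → ℕ) (hz : z ≠ 0) :
    ∃ i, 0 < z i ∧ ∑ j, (z j : ℤ) * G j i < 0 := by
  by_contra hcon
  push Not at hcon
  have h1 := hneg (fun i => (z i : ℤ)) (by
    intro h
    apply hz
    funext i
    have := congrFun h i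
    simpa using this)
  rw [sum_eq_sum_row] at h1
  have h2 : 0 ≤ ∑ j, (z j : ℤ) * ∑ i, (z i : ℤ) * G i j := by
    refine Finset.sum_nonneg fun j _ => ?_
    rcases Nat.eq_zero_or_pos (z j) with h | h
    · simp [h]
    · exact mul_nonneg (by positivity) (hcon j h)
  linarith

/-- Full support. -/
theorem pos_of_connected [DecidableEq ι] {G : ι → ι → ℤ} (hoff : ∀ i j, i ≠ j → 0 ≤ G i j) (hconn : IsConn G)
    (z : ι → ℕ) (hz : z ≠ 0) (hrow : ∀ j, ∑ i, (z i : ℤ) * G i j ≤ 0) (i : ι) : 0 < z i := by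
  by_contra hi
  set S : Finset ι := Finset.univ.filter fun i => 0 < z i with hS
  have hSn : S.Nonempty := by
    obtain ⟨j, hj⟩ := Function.ne_iff.1 hz
    exact ⟨j, by simp [hS]; exact Nat.pos_of_ne_zero hj⟩
  have hSc : Sᶜ.Nonempty := ⟨i, by simp [hS]; omega⟩
  obtain ⟨a, ha, b, hb, hab⟩ := hconn S hSn hSc
  have ha' : 0 < z a := by simpa [hS] using ha
  have hb' : z b = 0 := by simpa [hS] using hb
  have hne : a ≠ b := by rintro rfl; omega
  have h1 : 0 < G a b := lt_of_le_of_ne (hoff a b hne) hab.symm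
  have h2 : 0 < ∑ i, (z i : ℤ) * G i b := by
    refine Finset.sum_pos' (fun i _ => ?_) ⟨a, Finset.mem_univ a, mul_pos (by exact_mod_cast ha') h1⟩
    by_cases hib : i = b
    · subst hib; simp [hb']
    · exact mul_nonneg (by positivity) (hoff i b hib)
  exact absurd (hrow b) (not_le.2 h2)

/-- The negative definiteness criterion. -/
theorem negDef_of_pos_vector [DecidableEq ι] {G : ι → ι → ℤ} (hsymm : ∀ i j, G i j = G j i)
    (hoff : ∀ i j, i ≠ j → 0 ≤ G i j) (hconn : IsConn G) (z : ι → ℤ) (hz : ∀ i, 0 < z i)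
    (hrow : ∀ j, ∑ i, z i * G i j ≤ 0) (hlt : ∃ j, ∑ i, z i * G i j < 0) : IsNegDef G := by
  intro a ha
  -- pass to the rationals
  set b : ι → ℚ := fun i => (a i : ℚ) / (z i : ℚ) with hb
  have hzq : ∀ i, (0 : ℚ) < z i := fun i => by exact_mod_cast hz i
  have hab : ∀ i, (a i : ℚ) = b i * z i := fun i => by
    simp only [hb]; field_simp [(hzq i).ne']
  have key : (∑ i, ∑ j, (a i : ℚ) * a j * G i j) =
      ∑ j, (b j) ^ 2 * z j * (∑ i, (z i : ℚ) * G i j) -
        (1 / 2) * ∑ i, ∑ j, (b i - b j) ^ 2 * (z i * z j * G i j) := by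
    have e1 : ∑ j, (b j) ^ 2 * z j * (∑ i, (z i : ℚ) * G i j) =
        (1 / 2) * (∑ i, ∑ j, (b j) ^ 2 * (z i * z j * G i j)) +
        (1 / 2) * (∑ i, ∑ j, (b i) ^ 2 * (z i * z j * G i j)) := by
      have f1 : ∑ j, (b j) ^ 2 * z j * (∑ i, (z i : ℚ) * G i j) = ∑ i, ∑ j, (b j) ^ 2 * (z i * z j * G i j) := by
        rw [Finset.sum_comm]
        refine Finset.sum_congr rfl fun j _ => ?_
        rw [Finset.mul_sum]
        exact Finset.sum_congr rfl fun i _ => by ring
      have f2 : ∑ i, ∑ j, (b j) ^ 2 * ((z i : ℚ) * z j * G i j) = ∑ i, ∑ j, (b i) ^ 2 * (z i * z j * G i j) := by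
        rw [Finset.sum_comm]
        refine Finset.sum_congr rfl fun i _ => Finset.sum_congr rfl fun j _ => ?_
        rw [hsymm j i]; ring
      rw [f1, ← f2]; ring
    rw [e1]
    have e2 : ∑ i, ∑ j, (b i - b j) ^ 2 * ((z i : ℚ) * z j * G i j) =
        (∑ i, ∑ j, (b i) ^ 2 * (z i * z j * G i j)) + (∑ i, ∑ j, (b j) ^ 2 * (z i * z j * G i j)) -
          2 * ∑ i, ∑ j, b i * b j * (z i * z j * G i j) := by
      rw [← Finset.sum_add_distrib, Finset.mul_sum, ← Finset.sum_sub_distrib]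
      refine Finset.sum_congr rfl fun i _ => ?_
      rw [← Finset.sum_add_distrib, Finset.mul_sum, ← Finset.sum_sub_distrib]
      exact Finset.sum_congr rfl fun j _ => by ring
    rw [e2]
    have e3 : ∑ i, ∑ j, (a i : ℚ) * a j * G i j = ∑ i, ∑ j, b i * b j * (z i * z j * G i j) := by
      refine Finset.sum_congr rfl fun i _ => Finset.sum_congr rfl fun j _ => ?_
      rw [hab i, hab j]; ring
    rw [e3]; ring
  have hrowq : ∀ j, (∑ i, (z i : ℚ) * G i j) ≤ 0 := fun j => by exact_mod_cast hrow j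
  have h1 : ∀ j, (b j) ^ 2 * z j * (∑ i, (z i : ℚ) * G i j) ≤ 0 := fun j =>
    mul_nonpos_of_nonneg_of_nonpos (mul_nonneg (sq_nonneg _) (hzq j).le) (hrowq j)
  have h2 : ∀ i j, 0 ≤ (b i - b j) ^ 2 * ((z i : ℚ) * z j * G i j) := fun i j => by
    by_cases hij : i = j
    · subst hij; simp
    · exact mul_nonneg (sq_nonneg _) (mul_nonneg (mul_nonneg (hzq i).le (hzq j).le) (by exact_mod_cast hoff i j hij))
  have hs1 : ∑ j, (b j) ^ 2 * z j * (∑ i, (z i : ℚ) * G i j) ≤ 0 := Finset.sum_nonpos fun j _ => h1 j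
  have hs2 : 0 ≤ ∑ i, ∑ j, (b i - b j) ^ 2 * ((z i : ℚ) * z j * G i j) :=
    Finset.sum_nonneg fun i _ => Finset.sum_nonneg fun j _ => h2 i j
  suffices h : (∑ i, ∑ j, (a i : ℚ) * a j * G i j) < 0 by exact_mod_cast h
  by_contra hcon
  push Not at hcon
  rw [key] at hcon
  have hs1' : ∑ j, (b j) ^ 2 * z j * (∑ i, (z i : ℚ) * G i j) = 0 := by linarith
  have hs2' : ∑ i, ∑ j, (b i - b j) ^ 2 * ((z i : ℚ) * z j * G i j) = 0 := by linarith
  have h3 : ∀ j, (b j) ^ 2 * z j * (∑ i, (z i : ℚ) * G i j) = 0 := fun j =>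
    (Finset.sum_eq_zero_iff_of_nonpos fun j _ => h1 j).1 hs1' j (Finset.mem_univ j)
  have h4 : ∀ i j, (b i - b j) ^ 2 * ((z i : ℚ) * z j * G i j) = 0 := fun i j =>
    (Finset.sum_eq_zero_iff_of_nonneg fun j _ => h2 i j).1
      ((Finset.sum_eq_zero_iff_of_nonneg fun i _ => Finset.sum_nonneg fun j _ => h2 i j).1 hs2' i
        (Finset.mem_univ i)) j (Finset.mem_univ j)
  obtain ⟨j₀, hj₀⟩ := hlt
  have hb0 : b j₀ = 0 := by
    have h5 : (∑ i, (z i : ℚ) * G i j₀) ≠ 0 := by
      have : (∑ i, (z i : ℚ) * G i j₀) < 0 := by exact_mod_cast hj₀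
      exact this.ne
    have h6 := h3 j₀
    rcases mul_eq_zero.1 h6 with h | h
    · rcases mul_eq_zero.1 h with h | h
      · exact pow_eq_zero_iff (two_ne_zero) |>.1 h
      · exact absurd h (hzq j₀).ne'
    · exact absurd h h5
  -- all b vanish
  have hball : ∀ i, b i = 0 := by
    by_contra hne
    push Not at hne
    obtain ⟨i₁, hi₁⟩ := hne
    obtain ⟨i, hi, j, hj, hij⟩ := hconn (Finset.univ.filter fun i => b i = 0) ⟨j₀, by simp [hb0]⟩
      ⟨i₁, by simp [hi₁]⟩
    have hi' : b i = 0 := by simpa using hi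
    have hj' : b j ≠ 0 := by simpa using hj
    have h5 := h4 i j
    rw [hi', zero_sub, neg_sq] at h5
    rcases mul_eq_zero.1 h5 with h | h
    · exact hj' (pow_eq_zero_iff (two_ne_zero) |>.1 h)
    · rcases mul_eq_zero.1 h with h | h
      · exact absurd h (mul_pos (hzq i) (hzq j)).ne'
      · exact hij (by exact_mod_cast h)
  apply ha
  funext i
  have := hab i
  rw [hball i, zero_mul] at this
  exact_mod_cast this

/-- Integral solutions of `S.C_j = - N t_j`. -/
theorem exists_orthogonal [DecidableEq ι] {G : ι → ι → ℤ} (hneg : IsNegDef G) (t : ι → ℤ) :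
    ∃ (N : ℕ) (s : ι → ℤ), 0 < N ∧ ∀ j, ∑ i, s i * G i j = - (N * t j) := by
  classical
  let M : Matrix ι ι ℤ := Matrix.of G
  have hdet : M.det ≠ 0 := by
    intro h
    obtain ⟨v, hv, hv0⟩ := Matrix.exists_vecMul_eq_zero_iff.2 h
    have h1 := hneg v hv
    rw [sum_eq_sum_row] at h1
    have h2 : ∀ j, ∑ i, v i * G i j = 0 := fun j => congrFun hv0 j
    simp [h2] at h1
  -- `s = - det * (t * adj)` satisfies `s G = - det^2 t`
  refine ⟨(M.det ^ 2).toNat, fun i => - M.det * (Matrix.vecMul t M.adjugate) i, ?_, fun j => ?_⟩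
  · have : 0 < M.det ^ 2 := by positivity
    omega
  · have h1 : Matrix.vecMul (Matrix.vecMul t M.adjugate) M = M.det • t := by
      rw [Matrix.vecMul_vecMul, Matrix.adjugate_mul, Matrix.vecMul_smul, Matrix.vecMul_one]
    have h2 : ∑ i, (Matrix.vecMul t M.adjugate) i * G i j = M.det * t j := congrFun h1 j
    have h3 : ((M.det ^ 2).toNat : ℤ) = M.det ^ 2 := Int.toNat_of_nonneg (sq_nonneg _)
    rw [h3]
    have h4 : ∑ i, - M.det * (Matrix.vecMul t M.adjugate) i * G i j =
        - M.det * ∑ i, (Matrix.vecMul t M.adjugate) i * G i j := by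
      rw [Finset.mul_sum]
      exact Finset.sum_congr rfl fun i _ => by ring
    rw [h4, h2]; ring

/-! ### Computation sequences -/

/-- The cycles in a computation sequence. -/
inductive Chain [DecidableEq ι] (G : ι → ι → ℤ) : (ι → ℕ) → Prop
  | base (i : ι) : Chain G (Pi.single i 1)
  | step (z : ι → ℕ) (i : ι) : Chain G z → 0 < ∑ j, (z j : ℤ) * G j i → Chain G (z + Pi.single i 1)

theorem Chain.ne_zero [DecidableEq ι] {G : ι → ι → ℤ} {z : ι → ℕ} (h : Chain G z) : z ≠ 0 := by
  cases h with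
  | base i => intro h; have := congrFun h i; simp at this
  | step z i _ _ => intro h; have := congrFun h i; simp at this

/-- From a component of `z` (with `z.C_j ≤ 0`) there is a computation sequence ending in some `w ≤ z` with
`w.C_j ≤ 0` for all `j`. -/
theorem exists_chain [DecidableEq ι] {G : ι → ι → ℤ} (hoff : ∀ i j, i ≠ j → 0 ≤ G i j) (z : ι → ℕ)
    (hz : ∀ j, ∑ i, (z i : ℤ) * G i j ≤ 0) (w₀ : ι → ℕ) (hw₀ : Chain G w₀) (hle₀ : w₀ ≤ z) :
    ∃ w, Chain G w ∧ w₀ ≤ w ∧ w ≤ z ∧ ∀ j, ∑ i, (w i : ℤ) * G i j ≤ 0 := by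
  induction hn : ∑ i, (z i - w₀ i) using Nat.strong_induction_on generalizing w₀ with
  | _ n ih =>
  by_cases hrow : ∀ j, ∑ i, (w₀ i : ℤ) * G i j ≤ 0
  · exact ⟨w₀, hw₀, le_rfl, hle₀, hrow⟩
  · push Not at hrow
    obtain ⟨j, hj⟩ := hrow
    -- `w₀ j < z j`
    have hlt : w₀ j < z j := by
      by_contra hge
      have heq : w₀ j = z j := le_antisymm (hle₀ j) (not_lt.1 hge)
      have h1 : ∑ i, (w₀ i : ℤ) * G i j ≤ ∑ i, (z i : ℤ) * G i j := by
        refine Finset.sum_le_sum fun i _ => ?_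
        by_cases hij : i = j
        · subst hij; rw [heq]
        · exact mul_le_mul_of_nonneg_right (by exact_mod_cast hle₀ i) (hoff i j hij)
      exact absurd (h1.trans (hz j)) (not_le.2 hj)
    have hle1 : w₀ + Pi.single j 1 ≤ z := by
      intro i
      by_cases hij : i = j
      · subst hij; simpa using hlt
      · simpa [Pi.single_apply, hij] using hle₀ i
    have hdec : ∑ i, (z i - (w₀ + Pi.single j 1 : ι → ℕ) i) < n := by
      rw [← hn]
      refine Finset.sum_lt_sum (fun i _ => ?_) ⟨j, Finset.mem_univ j, ?_⟩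
      · simp only [Pi.add_apply]; omega
      · simp only [Pi.add_apply, Pi.single_eq_same]; omega
    obtain ⟨w, hw, h1, h2, h3⟩ := ih _ hdec _ (Chain.step w₀ j hw₀ hj) hle1 rfl
    refine ⟨w, hw, le_trans ?_ h1, h2, h3⟩
    intro i; simp

end K464.NegDef
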