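import Groth.Agent.Surf.K464.Cohom
import Groth.Agent.Surf.K464.Comp
import Groth.Agent.Surf.K464.NegDef
import Groth.Agent.Sga2lef.H85.ConnDimChain

/-!
# Cohomology of cycles on curves (K464)

* `step_H1` : `H¹(O_{Z+C} ⊗ L) = 0` if `H¹(O_Z ⊗ L) = 0`, `C` rational and `deg_C (L(-Z)) ≥ -1`.
* `euler_mul` : `χ(O_{Z+C}) = χ(O_Z) + χ(O_C) - Z.C`.
* `one_le_h0` : `h⁰(O_Z) ≥ 1` for `Z ≠ 0`; `h0_curve`: `h⁰(O_C) = 1`.
* `chain_main` : Laufer sequences.
* `subsingleton_H1_cyc` : `H¹(O_Z) = 0` for all `Z > 0` if `χ(O_{Z₀}) = 1`.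
-/

set_option autoImplicit false
universe u
open CategoryTheory CategoryTheory.Limits AlgebraicGeometry Opposite TopologicalSpace

namespace K464.RatConf

open Groth.Agent.Grpsch.PicGrp Groth.Agent.Dix.IdealModCartier Groth.Agent Groth.Agent.Divis.EffCartier K464.Base
open K464.Curves K464.Cohom K464.DivLat K464.Comp K464.NegDef

section basic

variable (k : Type u) [Field k] {X : Scheme.{u}} [X.Over (Spec (CommRingCat.of k))]
  [IsProper (X ↘ Spec (CommRingCat.of k))]

/-- `H¹(O_{Z+C} ⊗ L) = 0`. -/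
theorem step_H1 [IsAlgClosed k] {C Z : X.IdealSheafData} (hC : IsCurve C)
    (hC1 : Subsingleton (Coh.HH X (ClSub.quotMod C) 1)) (hZ : BlowUp.IsEffCartierIdeal Z)
    {L : X.Modules} (hL : PicF.IsInvertible L) (hdeg : -1 ≤ degOn k X C (ic Z hZ) + degOn k X C (mk L hL))
    (h : Subsingleton (Coh.HH X (CohB1.tensorMod (ClSub.quotMod Z) L) 1)) :
    Subsingleton (Coh.HH X (CohB1.tensorMod (ClSub.quotMod (Z * C)) L) 1) := by
  obtain ⟨S, hS, ⟨e1⟩, ⟨e2⟩, ⟨e3⟩⟩ := exists_seq C hZ hL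
  refine Fga.HShift.subsingleton_of_iso e2 1 (Fga.HShift.subsingleton₂ hS 1 ?_ ?_)
  · refine Fga.HShift.subsingleton_of_iso e1.symm 1 ?_
    refine subsingleton_H1_of_rational k hC hC1 (Fdesc.LocGen.isInvertible_tensorMod (isInvertible_idealMod hZ) hL) ?_
    rw [← mk_mul_mk, degOn_mul k hC]
    exact hdeg
  · exact Fga.HShift.subsingleton_of_iso e3.symm 1 h

/-- `χ(O_{Z+C}) = χ(O_Z) + χ(O_C) + deg_C O(-Z)`. -/
theorem euler_mul {Z : X.IdealSheafData} (W : X.IdealSheafData) (hZ : BlowUp.IsEffCartierIdeal Z) :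
    Curv2.euler k X (ClSub.quotMod (Z * W)) =
      Curv2.euler k X (ClSub.quotMod Z) + Curv2.euler k X (ClSub.quotMod W) + degOn k X W (ic Z hZ) := by
  obtain ⟨S, hS, ⟨e1⟩, ⟨e2⟩, ⟨e3⟩⟩ := exists_seq₀ W hZ
  have h := S1524.result k X _ hS
    (Sga67.CohBasic.isCoh_of_iso e1.symm (isCoh_tensorMod X (isCoh_quotMod X W) (isInvertible_idealMod hZ)))
    (Sga67.CohBasic.isCoh_of_iso e2.symm (isCoh_quotMod X _))
    (Sga67.CohBasic.isCoh_of_iso e3.symm (isCoh_quotMod X _))
  rw [euler_congr k X e1, euler_congr k X e2, euler_congr k X e3] at h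
  change _ = _ + _ + (_ - _)
  rw [h]; ring

/-- `h⁰(O_Z) ≥ 1` for `Z ≠ 0`. -/
theorem one_le_h0 {Z : X.IdealSheafData} (hZ : Z ≠ ⊤) : 1 ≤ Module.finrank k (Coh.HH X (ClSub.quotMod Z) 0) := by
  letI := overC k X Z
  have := isProper_sub k X Z
  rw [(hhSub0 k Z 0).finrank_eq]
  have hne : Nonempty Z.subscheme := by
    by_contra hne
    apply hZ
    rw [← Scheme.IdealSheafData.support_eq_bot_iff]
    refine TopologicalSpace.Closeds.ext ?_
    rw [← Z.range_subschemeι]
    rw [not_nonempty_iff] at hne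
    exact Set.range_eq_empty _
  have hfin := Fga.HodgeSec.finite_HH k (Z := Z.subscheme) (L := Coh.structureModule Z.subscheme)
    Fdesc.LocGen.isInvertible_structureModule 0
  have hnt : Nontrivial (Coh.HH Z.subscheme (Coh.structureModule Z.subscheme) 0) := by
    refine (VarietyA.H0Equiv.hZeroEquiv (Coh.structureModule Z.subscheme)).toEquiv.nontrivial_congr.mpr ?_
    have : Nonempty (⊤ : Z.subscheme.Opens) := ⟨⟨hne.some, trivial⟩⟩
    exact inferInstanceAs (Nontrivial Γ(Z.subscheme, ⊤))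
  exact Module.finrank_pos

end basic

section dim

variable {X : Scheme.{u}} {ι : Type*} [Fintype ι] {C : ι → X.IdealSheafData}

theorem le_one_of_lt_two {a : WithBot ℕ∞} (h : a < (2 : ℕ)) : a ≤ 1 := by
  induction a using WithBot.recBotCoe with
  | bot => exact bot_le
  | coe a =>
    have h1 : a < 1 + 1 := WithBot.coe_lt_coe.1 (h.trans_eq (by norm_num))
    exact WithBot.coe_le_coe.2 (Order.le_of_lt_add_one h1)

/-- Cycles have dimension at most one. -/
theorem dim_support_cyc (hC : ∀ i, IsCurve (C i)) (n : ι → ℕ) :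
    topologicalKrullDim ((cyc C n).support : Set X) ≤ 1 := by
  refine le_one_of_lt_two (Sga2lef.H85.ConnDimChain.dim_lt_of_subset_sUnion
    (Set.range fun i => ((C i).support : Set X)) (Set.finite_range _) ?_ ?_ 2 ?_)
  · rintro _ ⟨i, rfl⟩; exact (C i).support.isClosed
  · rw [Set.sUnion_range]; exact support_cyc_subset n
  · rintro _ ⟨i, rfl⟩
    change topologicalKrullDim ((C i).support : Set X) < _
    rw [(hC i).dim]
    exact_mod_cast one_lt_two

end dim

section conf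

variable (k : Type u) [Field k] {X : Scheme.{u}} [X.Over (Spec (CommRingCat.of k))]
  [IsProper (X ↘ Spec (CommRingCat.of k))] [IsAlgClosed k]
  {ι : Type*} [Fintype ι] [DecidableEq ι] {C : ι → X.IdealSheafData} (hE : ∀ i, BlowUp.IsEffCartierIdeal (C i))
  (hC : ∀ i, IsCurve (C i)) (hdim : topologicalKrullDim X ≤ (2 : ℕ))

/-- `h⁰(O_C) = 1`, hence `χ(O_C) = 1 - h¹(O_C)`. -/
theorem euler_curve {C : X.IdealSheafData} (hC : IsCurve C) :
    Curv2.euler k X (ClSub.quotMod C) = 1 - Module.finrank k (Coh.HH X (ClSub.quotMod C) 1) := by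
  rw [euler_quot_eq k C hC.dim.le]
  letI := overC k X C
  have := isProper_sub k X C
  have := hC.integral
  have hd : topologicalKrullDim C.subscheme = 1 := (dim_sub X C).trans hC.dim
  have h1 : Module.finrank k (Coh.HH X (ClSub.quotMod C) 0) = 1 := by
    rw [(hhSub0 k C 0).finrank_eq]
    exact VarietyA.CurveFin.finrank_h0_structure k C.subscheme
  rw [h1]; norm_num

include hC hdim in
/-- Laufer sequences: `χ(O_z) ≤ 1`, and if `χ(O_z) = 1` then `H¹(O_z ⊗ L) = 0` for every `L` of nonnegative degree on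
all the `C_i`. -/
theorem chain_main (z : ι → ℕ) (hz : Chain (gram k hE) z) :
    Curv2.euler k X (ClSub.quotMod (cyc C z)) ≤ 1 ∧
      (Curv2.euler k X (ClSub.quotMod (cyc C z)) = 1 → ∀ (L : X.Modules) (hL : PicF.IsInvertible L),
        (∀ i, 0 ≤ degOn k X (C i) (mk L hL)) →
          Subsingleton (Coh.HH X (CohB1.tensorMod (ClSub.quotMod (cyc C z)) L) 1)) := by
  induction hz with
  | base i =>
    rw [cyc_single, euler_curve k (hC i)]
    refine ⟨by simp, fun h L hL hdeg => ?_⟩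
    have h1 : Module.finrank k (Coh.HH X (ClSub.quotMod (C i)) 1) = 0 := by
      have : (Module.finrank k (Coh.HH X (ClSub.quotMod (C i)) 1) : ℤ) = 0 := by linarith
      exact_mod_cast this
    have := finite_HH k (isCoh_quotMod X (C i)) 1
    have h2 : Subsingleton (Coh.HH X (ClSub.quotMod (C i)) 1) := Module.finrank_zero_iff.1 h1
    exact subsingleton_H1_of_rational k (hC i) h2 hL (by have := hdeg i; linarith)
  | step z i hz hpos ih =>
    obtain ⟨ih1, ih2⟩ := ih
    have hdz : degOn k X (C i) (ic (cyc C z) (isEff_cyc hE z)) = - ∑ j, (z j : ℤ) * gram k hE j i :=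
      degOn_cyc k hE hdim z i
    have he := euler_mul k (C i) (isEff_cyc hE z)
    rw [hdz, euler_curve k (hC i)] at he
    rw [cyc_add, cyc_single, he]
    have hnn : (0 : ℤ) ≤ Module.finrank k (Coh.HH X (ClSub.quotMod (C i)) 1) := by positivity
    refine ⟨by linarith, fun h L hL hdeg => ?_⟩
    have h1 : (Module.finrank k (Coh.HH X (ClSub.quotMod (C i)) 1) : ℤ) = 0 := by linarith
    have h1' : Module.finrank k (Coh.HH X (ClSub.quotMod (C i)) 1) = 0 := by exact_mod_cast h1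
    have := finite_HH k (isCoh_quotMod X (C i)) 1
    have h2 : Subsingleton (Coh.HH X (ClSub.quotMod (C i)) 1) := Module.finrank_zero_iff.1 h1'
    have h3 : Curv2.euler k X (ClSub.quotMod (cyc C z)) = 1 := by linarith
    refine step_H1 k (hC i) h2 (isEff_cyc hE z) hL ?_ (ih2 h3 L hL hdeg)
    rw [hdz]
    have := hdeg i
    linarith

/-- From a cycle to a multiple: `H¹(O_{N Z₀} ⊗ L) = 0`. -/
theorem subsingleton_H1_mul {Z W : X.IdealSheafData} (hZ : BlowUp.IsEffCartierIdeal Z) {L : X.Modules}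
    (hL : PicF.IsInvertible L)
    (h1 : Subsingleton (Coh.HH X (CohB1.tensorMod (ClSub.quotMod W) (CohB1.tensorMod (ClSub.idealMod Z) L)) 1))
    (h2 : Subsingleton (Coh.HH X (CohB1.tensorMod (ClSub.quotMod Z) L) 1)) :
    Subsingleton (Coh.HH X (CohB1.tensorMod (ClSub.quotMod (Z * W)) L) 1) := by
  obtain ⟨S, hS, ⟨e1⟩, ⟨e2⟩, ⟨e3⟩⟩ := exists_seq W hZ hL
  exact Fga.HShift.subsingleton_of_iso e2 1 (Fga.HShift.subsingleton₂ hS 1
    (Fga.HShift.subsingleton_of_iso e1.symm 1 h1) (Fga.HShift.subsingleton_of_iso e3.symm 1 h2))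

omit [IsAlgClosed k] in
include k in
/-- `H¹(O_{Z+W} ⊗ L) ⟶ H¹(O_Z ⊗ L)` is surjective. -/
theorem subsingleton_H1_of_mul {Z W : X.IdealSheafData} (hZ : BlowUp.IsEffCartierIdeal Z)
    (hW : topologicalKrullDim (W.support : Set X) ≤ 1) {L : X.Modules} (hL : PicF.IsInvertible L)
    (h : Subsingleton (Coh.HH X (CohB1.tensorMod (ClSub.quotMod (Z * W)) L) 1)) :
    Subsingleton (Coh.HH X (CohB1.tensorMod (ClSub.quotMod Z) L) 1) := by
  obtain ⟨S, hS, ⟨e1⟩, ⟨e2⟩, ⟨e3⟩⟩ := exists_seq W hZ hL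
  refine Fga.HShift.subsingleton_of_iso e3 1 (Fga.HShift.subsingleton₃ hS 1
    (Fga.HShift.subsingleton_of_iso e2.symm 1 h) (Fga.HShift.subsingleton_of_iso e1.symm 2 ?_))
  exact subsingleton_HH_gt k (d := 1) W (by exact_mod_cast hW)
    (Fdesc.LocGen.isInvertible_tensorMod (isInvertible_idealMod hZ) hL) 2 (by norm_num)

omit [IsAlgClosed k] in
include k hE hC in
/-- `H¹(O_{Z+D} ⊗ L) = 0` implies `H¹(O_Z ⊗ L) = 0` for cycles. -/
theorem subsingleton_H1_of_add (z d : ι → ℕ) {L : X.Modules} (hL : PicF.IsInvertible L)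
    (h : Subsingleton (Coh.HH X (CohB1.tensorMod (ClSub.quotMod (cyc C (z + d))) L) 1)) :
    Subsingleton (Coh.HH X (CohB1.tensorMod (ClSub.quotMod (cyc C z)) L) 1) := by
  induction hm : ∑ i, d i generalizing d with
  | zero =>
    have hd : d = 0 := by
      funext i
      have := (Finset.sum_eq_zero_iff (s := Finset.univ) (f := d)).1 hm i (Finset.mem_univ i)
      simpa using this
    rwa [hd, add_zero] at h
  | succ m ih =>
    obtain ⟨i, hi⟩ : ∃ i, 0 < d i := by
      by_contra hcon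
      push Not at hcon
      have : ∑ i, d i = 0 := Finset.sum_eq_zero fun i _ => Nat.le_zero.1 (hcon i)
      omega
    obtain ⟨d', rfl⟩ : ∃ d' : ι → ℕ, d = d' + Pi.single i 1 := by
      refine ⟨fun j => d j - (Pi.single i 1 : ι → ℕ) j, funext fun j => ?_⟩
      by_cases hij : j = i
      · subst hij; simp; omega
      · simp [Pi.single_apply, hij]
    refine ih d' ?_ ?_
    · rw [← add_assoc, cyc_add C (z + d'), cyc_single] at h
      exact subsingleton_H1_of_mul k (isEff_cyc hE _) (hC i).dim.le hL h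
    · simp only [Pi.add_apply, Finset.sum_add_distrib] at hm
      have : ∑ j, (Pi.single i 1 : ι → ℕ) j = 1 := by
        rw [Finset.sum_eq_single i]
        · simp
        · intro j _ hj; simp [Pi.single_apply, hj]
        · intro h; exact absurd (Finset.mem_univ i) h
      omega

include hC hdim in
/-- Vanishing of `H¹(O_Z ⊗ L)` for all cycles `Z`, from `χ(O_{Z₀}) = 1`. -/
theorem subsingleton_H1_cyc (z₀ : ι → ℕ) (hz : Chain (gram k hE) z₀) (hpos : ∀ i, 0 < z₀ i)
    (hrow : ∀ j, ∑ i, (z₀ i : ℤ) * gram k hE i j ≤ 0)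
    (hchi : Curv2.euler k X (ClSub.quotMod (cyc C z₀)) = 1) (n : ι → ℕ) {L : X.Modules} (hL : PicF.IsInvertible L)
    (hdeg : ∀ i, 0 ≤ degOn k X (C i) (mk L hL)) :
    Subsingleton (Coh.HH X (CohB1.tensorMod (ClSub.quotMod (cyc C n)) L) 1) := by
  have key := (chain_main k hE hC hdim z₀ hz).2 hchi
  have hmult : ∀ N : ℕ, Subsingleton (Coh.HH X (CohB1.tensorMod (ClSub.quotMod (cyc C ((N + 1) • z₀))) L) 1) := by
    intro N
    induction N with
    | zero => rw [zero_add, one_smul]; exact key L hL hdeg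
    | succ N ih =>
      rw [add_smul (N + 1) 1 z₀, one_smul, cyc_add]
      have hIL : PicF.IsInvertible (CohB1.tensorMod (ClSub.idealMod (cyc C ((N + 1) • z₀))) L) :=
        Fdesc.LocGen.isInvertible_tensorMod (isInvertible_idealMod (isEff_cyc hE _)) hL
      refine subsingleton_H1_mul (isEff_cyc hE _) hL (key _ hIL fun i => ?_) ih
      have h0 : mk _ hIL = ic (cyc C ((N + 1) • z₀)) (isEff_cyc hE _) * mk L hL := rfl
      rw [h0, degOn_mul k (hC i)]
      have h1 : degOn k X (C i) (ic (cyc C ((N + 1) • z₀)) (isEff_cyc hE _)) =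
          - ((N + 1 : ℕ) : ℤ) * ∑ j, (z₀ j : ℤ) * gram k hE j i := by
        rw [degOn_cyc k hE hdim, neg_mul, Finset.mul_sum]
        congr 1
        refine Finset.sum_congr rfl fun j _ => ?_
        simp only [Pi.smul_apply, smul_eq_mul]
        push_cast
        ring
      rw [h1]
      refine add_nonneg (mul_nonneg_of_nonpos_of_nonpos ?_ (hrow i)) (hdeg i)
      rw [neg_nonpos]
      exact Nat.cast_nonneg _
  have hle : n ≤ (∑ i, n i + 1) • z₀ := by
    intro i
    have h1 : n i ≤ ∑ i, n i := Finset.single_le_sum (f := n) (fun _ _ => Nat.zero_le _) (Finset.mem_univ i)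
    have h2 := hpos i
    simp only [Pi.smul_apply, smul_eq_mul]
    nlinarith
  obtain ⟨d, hd⟩ : ∃ d : ι → ℕ, (∑ i, n i + 1) • z₀ = n + d :=
    ⟨fun i => ((∑ i, n i + 1) • z₀) i - n i, funext fun i => (Nat.add_sub_cancel' (hle i)).symm⟩
  refine subsingleton_H1_of_add k hE hC n d hL ?_
  rw [← hd]
  exact hmult _

end conf

section fund

variable (k : Type u) [Field k] {X : Scheme.{u}} [X.Over (Spec (CommRingCat.of k))]
  [IsProper (X ↘ Spec (CommRingCat.of k))] [IsNoetherian X]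
  {ι : Type*} [Fintype ι] [DecidableEq ι] {C : ι → X.IdealSheafData} (hE : ∀ i, BlowUp.IsEffCartierIdeal (C i))
  (hC : ∀ i, IsCurve (C i)) (hinj : Function.Injective C) (hdim : topologicalKrullDim X ≤ (2 : ℕ))

include hC hinj hdim in
/-- The fundamental cycle is the end of a Laufer sequence and has full support. -/
theorem exists_fundamental (i₀ : ι) (hconn : IsConn (gram k hE)) {Z₀ : X.IdealSheafData}
    (hZ₀ : BlowUp.IsEffCartierIdeal Z₀) (hne : Z₀ ≠ ⊤) (hs : (Z₀.support : Set X) ⊆ ⋃ i, ((C i).support : Set X))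
    (hrow : ∀ i, 0 ≤ degOn k X (C i) (ic Z₀ hZ₀))
    (hmin : ∀ Z : X.IdealSheafData, ∀ hZ : BlowUp.IsEffCartierIdeal Z, Z ≠ ⊤ →
      (Z.support : Set X) ⊆ ⋃ i, ((C i).support : Set X) → (∀ i, 0 ≤ degOn k X (C i) (ic Z hZ)) → Z ≤ Z₀) :
    ∃ z₀ : ι → ℕ, Z₀ = cyc C z₀ ∧ Chain (gram k hE) z₀ ∧ (∀ i, 0 < z₀ i) ∧
      ∀ j, ∑ i, (z₀ i : ℤ) * gram k hE i j ≤ 0 := by
  obtain ⟨z₀, rfl⟩ := exists_cyc hC hE hZ₀ hs
  have hz0 : z₀ ≠ 0 := fun h => hne ((cyc_eq_top_iff hC hE hinj).2 h)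
  have hr : ∀ j, ∑ i, (z₀ i : ℤ) * gram k hE i j ≤ 0 := by
    intro j
    have h1 := hrow j
    have h2 := degOn_cyc k hE hdim z₀ j
    have h3 : degOn k X (C j) (ic (cyc C z₀) hZ₀) = degOn k X (C j) (ic (cyc C z₀) (isEff_cyc hE z₀)) := rfl
    rw [h3, h2] at h1
    linarith
  have hoff : ∀ i j, i ≠ j → 0 ≤ gram k hE i j := fun i j => gram_nonneg k hE hC hinj i j
  have hpos := pos_of_connected hoff hconn z₀ hz0 hr
  refine ⟨z₀, rfl, ?_, hpos, hr⟩
  obtain ⟨w, hw, -, hwle, hwr⟩ := exists_chain hoff z₀ hr (Pi.single i₀ 1) (Chain.base i₀) (by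
    intro i
    by_cases hi : i = i₀
    · subst hi; simpa using Nat.succ_le_of_lt (hpos i)
    · simp [Pi.single_apply, hi])
  have h1 := hmin (cyc C w) (isEff_cyc hE w) (fun h => hw.ne_zero ((cyc_eq_top_iff hC hE hinj).1 h))
    (support_cyc_subset w) (fun i => by rw [degOn_cyc k hE hdim]; have := hwr i; linarith)
  rw [cyc_le_iff hC hE hinj] at h1
  rw [le_antisymm h1 hwle]
  exact hw

end fund

end K464.RatConf
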