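import Groth.Agent.Surf.K464.Base
import Groth.Agent.S1518
import Groth.Agent.S1531
import Groth.Agent.S1535
import Groth.Agent.S1684
import Groth.Agent.S1530
import Groth.Agent.Dix.RegTwoDim
import Groth.Agent.Dix.InterSurf
import Groth.Agent.Dix.VertGeom
import Groth.Agent.CycA.IntLocal
import Groth.Agent.Models.H54.PosDeg
import Groth.Agent.CurvesC.DegIso
import Groth.Agent.VarietyB.ProjForm
import Groth.Agent.Fga.HodgePush
import Groth.Agent.Dix.ContractSurf
import Groth.Agent.CalgB.AmpleBase

/-!
# Curves on proper surfaces (K464)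

* `IsCurve C` : `C : X.IdealSheafData` is integral of dimension one.
* `overC k X C`, `isProper_sub`, `dim_sub`.
* `degOn k X C : Pic X → ℤ`, `degOn_mk : degOn C (mk L) = χ(O_C ⊗ L) - χ(O_C)`,
  `degOn_eq_deg : degOn C (mk L) = Curv2.deg k C.subscheme (L|_C) 1`, `degOn_mul`, `degOn_inv`, `degOn_zpow`, `degOn_prod`.
* `dot_ic_eq : dot (ic D) a = - degOn D a` (`D` effective Cartier).
* `isEff_of_isCurve`: curves on a surface with UFD local rings (regular, smooth) are effective Cartier.
* `degOn_ic_nonpos`, `degOn_ic_neg`, `degOn_ic_eq_zero`: `(C.D) ≥ 0` for `C` not contained in `D`, `> 0` if they meet,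
  `= 0` if they are disjoint; `dot_ic_nonneg`, `dot_ic_pos_iff`.
* `degOn_pos_of_ample`.
-/

set_option autoImplicit false
universe u
open CategoryTheory CategoryTheory.Limits AlgebraicGeometry Opposite TopologicalSpace

namespace K464.Curves

open Groth.Agent.Grpsch.PicGrp Groth.Agent.Dix.IdealModCartier Groth.Agent Groth.Agent.Divis.EffCartier K464.Base

/-- An integral curve on `X`, given by its ideal. -/
structure IsCurve {X : Scheme.{u}} (C : X.IdealSheafData) : Prop where
  integral : IsIntegral C.subscheme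
  dim : topologicalKrullDim (C.support : Set X) = 1

section ovr

variable (k : Type u) [Field k] (X : Scheme.{u}) [X.Over (Spec (CommRingCat.of k))]

/-- The `k`-scheme structure on a closed subscheme. -/
@[reducible] noncomputable def overC (C : X.IdealSheafData) : C.subscheme.Over (Spec (CommRingCat.of k)) :=
  ⟨C.subschemeι ≫ (X ↘ Spec (CommRingCat.of k))⟩

theorem isProper_sub [IsProper (X ↘ Spec (CommRingCat.of k))] (C : X.IdealSheafData) :
    letI := overC k X C
    IsProper (C.subscheme ↘ Spec (CommRingCat.of k)) :=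
  inferInstanceAs (IsProper (C.subschemeι ≫ (X ↘ Spec (CommRingCat.of k))))

omit [X.Over (Spec (CommRingCat.of k))] in
theorem dim_sub (C : X.IdealSheafData) : topologicalKrullDim C.subscheme = topologicalKrullDim (C.support : Set X) :=
  CycA.IntLocal.dim_subscheme C

/-- The restriction of `L` to `C`, pushed forward, is `O_C ⊗ L`. -/
theorem nonempty_iso_push (C : X.IdealSheafData) {L : X.Modules} (hL : PicF.IsInvertible L) :
    Nonempty (CohB1.tensorMod (ClSub.quotMod C) L ≅
      (Scheme.Modules.pushforward C.subschemeι).obj ((Scheme.Modules.pullback C.subschemeι).obj L)) :=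
  ⟨Ega2.Tens.swap _ _ ≪≫ VarietyB.ProjForm.projIsoUnit C.subschemeι (Fga.HodgePush.hasBases_of_isInvertible hL)⟩

theorem euler_quotMod_tensor_sub (C : X.IdealSheafData) {L : X.Modules} (hL : PicF.IsInvertible L) :
    Curv2.euler k X (CohB1.tensorMod (ClSub.quotMod C) L) =
      @Curv2.euler k _ C.subscheme (overC k X C) ((Scheme.Modules.pullback C.subschemeι).obj L) := by
  letI := overC k X C
  obtain ⟨e⟩ := nonempty_iso_push X C hL
  rw [euler_congr k X e]
  exact CurvesC.DegIso.euler_push k C.subschemeι rfl _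

theorem euler_quotMod_sub (C : X.IdealSheafData) : Curv2.euler k X (ClSub.quotMod C) =
    @Curv2.euler k _ C.subscheme (overC k X C) (Coh.structureModule C.subscheme) := by
  letI := overC k X C
  exact CurvesC.DegIso.euler_push k C.subschemeι rfl _

/-- The degree of an invertible module on a closed subscheme: `χ(O_C ⊗ L) - χ(O_C)`. -/
noncomputable def degOn (C : X.IdealSheafData) : Pic X → ℤ :=
  Quotient.lift (s := isoSetoid X) (fun L => Curv2.euler k X (CohB1.tensorMod (ClSub.quotMod C) L.1) -
    Curv2.euler k X (ClSub.quotMod C)) (fun _ _ ⟨e⟩ => by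
      change _ - _ = _ - _
      rw [euler_congr k X (Ega2.Tens.mapTIso (Iso.refl _) e)])

theorem degOn_mk (C : X.IdealSheafData) {L : X.Modules} (hL : PicF.IsInvertible L) :
    degOn k X C (mk L hL) = Curv2.euler k X (CohB1.tensorMod (ClSub.quotMod C) L) -
      Curv2.euler k X (ClSub.quotMod C) := rfl

theorem degOn_eq_deg (C : X.IdealSheafData) {L : X.Modules} (hL : PicF.IsInvertible L) :
    degOn k X C (mk L hL) = @Curv2.deg k _ C.subscheme (overC k X C) ((Scheme.Modules.pullback C.subschemeι).obj L) 1 := by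
  rw [degOn_mk, euler_quotMod_tensor_sub k X C hL, euler_quotMod_sub]
  unfold Curv2.deg
  push_cast
  ring

end ovr

section gp

variable {X : Scheme.{u}}

/-- The generic point of a curve. -/
noncomputable def gp {C : X.IdealSheafData} (hC : IsCurve C) : X :=
  haveI := hC.integral
  C.subschemeι (genericPoint C.subscheme)

theorem ker_subschemeι (C : X.IdealSheafData) : C.subschemeι.ker = C := Scheme.IdealSheafData.ker_subschemeι C

theorem le_iff_gp_mem {C : X.IdealSheafData} (hC : IsCurve C) (J : X.IdealSheafData) : J ≤ C ↔ gp hC ∈ J.support := by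
  have := hC.integral
  have h := Dix.VertGeom.le_ker_iff C.subschemeι J
  rw [Scheme.IdealSheafData.ker_subschemeι] at h
  exact h

theorem gp_mem {C : X.IdealSheafData} (hC : IsCurve C) : gp hC ∈ C.support := (le_iff_gp_mem hC C).1 le_rfl

theorem eq_of_gp_mem {C D : X.IdealSheafData} (hC : IsCurve C) (hD : IsCurve D) (h : gp hC ∈ D.support) : C = D := by
  have := hC.integral
  have := hD.integral
  have h1 := Dix.VertGeom.ker_eq_of_mem C.subschemeι D.subschemeι ((dim_sub X C).trans hC.dim)
    ((dim_sub X D).trans hD.dim) (by rw [Scheme.IdealSheafData.ker_subschemeι]; exact h)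
  rwa [Scheme.IdealSheafData.ker_subschemeι, Scheme.IdealSheafData.ker_subschemeι] at h1

theorem closure_gp {C : X.IdealSheafData} (hC : IsCurve C) : closure {gp hC} = (C.support : Set X) := by
  have := hC.integral
  rw [← C.range_subschemeι]
  have h1 : closure {genericPoint C.subscheme} = (Set.univ : Set C.subscheme) := genericPoint_spec _
  have h2 := C.subschemeι.isClosedEmbedding.isClosedMap.closure_image_eq_of_continuous C.subschemeι.continuous
    {genericPoint C.subscheme}
  rw [Set.image_singleton, h1, Set.image_univ] at h2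
  exact h2

/-- `C ⊆ Supp D` iff the generic point of `C` lies on `D`. -/
theorem support_subset_iff {C : X.IdealSheafData} (hC : IsCurve C) (D : X.IdealSheafData) :
    (C.support : Set X) ⊆ D.support ↔ gp hC ∈ D.support := by
  constructor
  · intro h; exact h (gp_mem hC)
  · intro h
    rw [← closure_gp hC]
    exact closure_minimal (Set.singleton_subset_iff.2 h) D.support.isClosed

theorem gp_notMem {C D : X.IdealSheafData} (hC : IsCurve C) (hD : IsCurve D) (h : C ≠ D) : gp hC ∉ D.support :=
  fun h' => h (eq_of_gp_mem hC hD h')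

end gp

section proper

variable (k : Type u) [Field k] (X : Scheme.{u}) [X.Over (Spec (CommRingCat.of k))]
  [IsProper (X ↘ Spec (CommRingCat.of k))]

/-- `(I_D . a) = - deg_D(a)` for `D` effective Cartier. -/
theorem dot_ic_eq {D : X.IdealSheafData} (hD : BlowUp.IsEffCartierIdeal D) (a : Pic X) :
    dot k X (ic D hD) a = - degOn k X D a := by
  obtain ⟨L, hL, rfl⟩ := exists_mk a
  rw [degOn_mk, euler_sub_euler k X hD hL, neg_neg]

theorem degOn_eq_neg_dot {D : X.IdealSheafData} (hD : BlowUp.IsEffCartierIdeal D) (a : Pic X) :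
    degOn k X D a = - dot k X (ic D hD) a := by rw [dot_ic_eq, neg_neg]

theorem intNum_idealMod_mk (hdim : topologicalKrullDim X ≤ (2 : ℕ)) (D : X.IdealSheafData) {L : X.Modules}
    (hL : PicF.IsInvertible L) : FGA.intNum k X 2 ![ClSub.idealMod D, L] (Coh.structureModule X) =
      - degOn k X D (mk L hL) := by
  rw [intNum_idealMod k X hdim D hL, degOn_mk]; ring

variable {X}

theorem degOn_one (C : X.IdealSheafData) : degOn k X C 1 = 0 := by
  rw [one_def, degOn_mk, euler_congr k X (Ega2.Tens.runit _), sub_self]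

theorem degOn_mul {C : X.IdealSheafData} (hC : IsCurve C) (a b : Pic X) :
    degOn k X C (a * b) = degOn k X C a + degOn k X C b := by
  obtain ⟨A, hA, rfl⟩ := exists_mk a
  obtain ⟨B, hB, rfl⟩ := exists_mk b
  letI := overC k X C
  have := isProper_sub k X C
  have := hC.integral
  have hd : topologicalKrullDim C.subscheme = 1 := (dim_sub X C).trans hC.dim
  rw [mk_mul_mk, degOn_eq_deg, degOn_eq_deg, degOn_eq_deg]
  obtain ⟨e⟩ := pullback_tensorMod C.subschemeι hA hB
  rw [Dix.InterNum.deg_congr k _ hd e]
  exact Dix.InterNum.deg_tensor k _ hd (Fdesc.LocGen.isInvertible_pullback _ hA)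
    (Fdesc.LocGen.isInvertible_pullback _ hB)

theorem degOn_inv {C : X.IdealSheafData} (hC : IsCurve C) (a : Pic X) : degOn k X C a⁻¹ = - degOn k X C a := by
  have h := degOn_mul k hC a a⁻¹
  rw [mul_inv_cancel, degOn_one] at h
  linarith

theorem degOn_pow {C : X.IdealSheafData} (hC : IsCurve C) (a : Pic X) (n : ℕ) :
    degOn k X C (a ^ n) = n * degOn k X C a := by
  induction n with
  | zero => rw [pow_zero, degOn_one]; simp
  | succ n ih => rw [pow_succ, degOn_mul k hC, ih]; push_cast; ring

theorem degOn_zpow {C : X.IdealSheafData} (hC : IsCurve C) (a : Pic X) (n : ℤ) :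
    degOn k X C (a ^ n) = n * degOn k X C a := by
  obtain ⟨m, rfl | rfl⟩ := n.eq_nat_or_neg
  · rw [zpow_natCast, degOn_pow k hC]
  · rw [zpow_neg, zpow_natCast, degOn_inv k hC, degOn_pow k hC]; push_cast; ring

theorem degOn_prod {C : X.IdealSheafData} (hC : IsCurve C) {ι : Type*} (s : Finset ι) (a : ι → Pic X) :
    degOn k X C (∏ i ∈ s, a i) = ∑ i ∈ s, degOn k X C (a i) := by
  classical
  induction s using Finset.induction_on with
  | empty => rw [Finset.prod_empty, Finset.sum_empty, degOn_one]
  | insert i s hi ih => rw [Finset.prod_insert hi, Finset.sum_insert hi, degOn_mul k hC, ih]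

/-! ### Positivity -/

/-- Intersection numbers of a curve with an effective divisor not containing it, as a dimension. -/
theorem degOn_ic {C D : X.IdealSheafData} (hC : IsCurve C) (hD : BlowUp.IsEffCartierIdeal D)
    (h : gp hC ∉ D.support) :
    letI := overC k X C
    degOn k X C (ic D hD) = - (Module.finrank k (Coh.HH C.subscheme (ClSub.quotMod (D.comap C.subschemeι)) 0) : ℤ) := by
  letI := overC k X C
  have := isProper_sub k X C
  have := hC.integral
  have hd : topologicalKrullDim C.subscheme = 1 := (dim_sub X C).trans hC.dim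
  have hD' := Dix.InterSurf.isEff_comap_of_generic C.subschemeι hD h
  obtain ⟨e⟩ := pullback_idealMod C.subschemeι hD hD'
  obtain ⟨N, -, ⟨f⟩⟩ := Grpsch.PicGrp.exists_inverse (isInvertible_idealMod hD')
  have hinv : ClSub.IsInverseOf N (ClSub.idealMod (D.comap C.subschemeι)) := ⟨Ega2.Tens.swap _ _ ≪≫ f⟩
  have h1 := Dix.InterNum.deg_of_effCartier k C.subscheme hd _ hD' N hinv
  have h2 := Dix.InterNum.deg_inverse k C.subscheme hd hinv
  change degOn k X C (ic D hD) = _
  rw [ic, degOn_eq_deg, Dix.InterNum.deg_congr k _ hd e]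
  rw [h2] at h1
  linarith

theorem degOn_ic_nonpos {C D : X.IdealSheafData} (hC : IsCurve C) (hD : BlowUp.IsEffCartierIdeal D)
    (h : gp hC ∉ D.support) : degOn k X C (ic D hD) ≤ 0 := by
  rw [degOn_ic k hC hD h]
  simp

theorem degOn_ic_neg {C D : X.IdealSheafData} (hC : IsCurve C) (hD : BlowUp.IsEffCartierIdeal D)
    (h : gp hC ∉ D.support) (hne : ¬ Disjoint (C.support : Set X) D.support) : degOn k X C (ic D hD) < 0 := by
  letI := overC k X C
  have := isProper_sub k X C
  have := hC.integral
  have hd : topologicalKrullDim C.subscheme = 1 := (dim_sub X C).trans hC.dim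
  obtain ⟨x, hx, hxD⟩ := Set.not_disjoint_iff.1 hne
  rw [← C.range_subschemeι] at hx
  obtain ⟨y, rfl⟩ := hx
  obtain ⟨N, hN, ⟨f⟩⟩ := Grpsch.PicGrp.exists_inverse (isInvertible_idealMod hD)
  have hinv : ClSub.IsInverseOf N (ClSub.idealMod D) := ⟨Ega2.Tens.swap _ _ ≪≫ f⟩
  have h1 := Models.H54.PosDeg.deg_pos k hd C.subschemeι hD h y hxD N hinv
  rw [← degOn_eq_deg k X C hN] at h1
  have h2 : ic D hD = (mk N hN)⁻¹ := by rw [mk_eq_ic_inv hinv hN hD, inv_inv]
  rw [h2, degOn_inv k hC]
  linarith

omit [X.Over (Spec (CommRingCat.of k))] [IsProper (X ↘ Spec (CommRingCat.of k))] in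
theorem nonempty_pullback_idealMod {Y : Scheme.{u}} (g : Y ⟶ X) {D : X.IdealSheafData}
    (hD : BlowUp.IsEffCartierIdeal D) (h : ∀ y : Y, g y ∉ D.support) :
    Nonempty ((Scheme.Modules.pullback g).obj (ClSub.idealMod D) ≅ Coh.structureModule Y) := by
  have h1 : D.comap g = ⊤ := by
    rw [← Scheme.IdealSheafData.support_eq_bot_iff]
    refine le_bot_iff.1 fun y hy => ?_
    rw [Scheme.IdealSheafData.support_comap] at hy
    exact (h y hy).elim
  have h2 : BlowUp.IsEffCartierIdeal (D.comap g) := by rw [h1]; exact isEff_top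
  obtain ⟨e⟩ := pullback_idealMod g hD h2
  obtain ⟨e'⟩ := idealMod_principal (X := Y) (D := ⊤) (a := 1) (by
    intro W hW
    rw [map_one]
    refine ⟨one_mem _, ?_⟩
    rw [Ideal.span_singleton_one]
    rfl)
  rw [h1] at e
  exact ⟨e ≪≫ e'.symm⟩

theorem degOn_ic_eq_zero {C D : X.IdealSheafData} (hC : IsCurve C) (hD : BlowUp.IsEffCartierIdeal D)
    (hne : Disjoint (C.support : Set X) D.support) : degOn k X C (ic D hD) = 0 := by
  letI := overC k X C
  have := isProper_sub k X C
  have hd : topologicalKrullDim C.subscheme = 1 := (dim_sub X C).trans hC.dim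
  obtain ⟨e⟩ := nonempty_pullback_idealMod C.subschemeι hD (fun y hy => Set.disjoint_left.1 hne (by
    rw [← C.range_subschemeι]; exact ⟨y, rfl⟩) hy)
  rw [ic, degOn_eq_deg, Dix.InterNum.deg_congr k _ hd e, Dix.InterNum.deg_unit]

/-- `deg L|_C > 0` for `L` ample. -/
theorem degOn_pos_of_ample {C : X.IdealSheafData} (hC : IsCurve C) {L : X.Modules} (hL : PicF.IsInvertible L)
    (hamp : CohB1.IsAmple L) : 0 < degOn k X C (mk L hL) := by
  letI := overC k X C
  have := isProper_sub k X C
  have := hC.integral
  have hd : topologicalKrullDim C.subscheme = 1 := (dim_sub X C).trans hC.dim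
  rw [degOn_eq_deg]
  exact (S1530.result k C.subscheme hd _ (Fdesc.LocGen.isInvertible_pullback _ hL)).1
    (CalgB.AmpleBase.isAmple_pullback_of_isImmersion C.subschemeι hamp)

/-! ### Curves are effective Cartier -/

omit [X.Over (Spec (CommRingCat.of k))] [IsProper (X ↘ Spec (CommRingCat.of k))] in
include k in
/-- The local ring at the generic point of a curve on a surface has dimension one. -/
theorem ringKrullDim_gp (f : X ⟶ Spec (CommRingCat.of k)) [LocallyOfFiniteType f] [IsIntegral X]
    (hdim : topologicalKrullDim X = 2) {C : X.IdealSheafData} (hC : IsCurve C) :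
    ringKrullDim (X.presheaf.stalk (gp hC)) = 1 := by
  obtain ⟨a, t, n, h1, -, h3, h4, h5⟩ := CycA.IntLocal.exists_dims f (gp hC)
  rw [closure_gp hC, hC.dim] at h3
  rw [hdim] at h4
  have ht : t = 1 := by exact_mod_cast h3.symm
  have hn : n = 2 := by exact_mod_cast h4.symm
  have ha : a = 1 := by omega
  rw [h1, ha]; rfl

omit [X.Over (Spec (CommRingCat.of k))] [IsProper (X ↘ Spec (CommRingCat.of k))] in
theorem ringKrullDim_stalk_le (hdim : topologicalKrullDim X ≤ 2) (x : X) : ringKrullDim (X.presheaf.stalk x) ≤ 2 := by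
  refine le_trans ?_ hdim
  rw [Groth.Agent.Dix.ContractSurf.topologicalKrullDim_eq]
  exact le_iSup (fun x : X => ringKrullDim (X.presheaf.stalk x)) x

omit [X.Over (Spec (CommRingCat.of k))] [IsProper (X ↘ Spec (CommRingCat.of k))] in
include k in
/-- Curves on a regular surface are effective Cartier divisors. -/
theorem isEff_of_isCurve (f : X ⟶ Spec (CommRingCat.of k)) [LocallyOfFiniteType f] [IsIntegral X]
    (hdim : topologicalKrullDim X = 2) (hreg : ∀ x : X, IsRegularLocalRing (X.presheaf.stalk x))
    {C : X.IdealSheafData} (hC : IsCurve C) : BlowUp.IsEffCartierIdeal C := by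
  have : IsLocallyNoetherian X := LocallyOfFiniteType.isLocallyNoetherian f
  have := hC.integral
  refine S1684.result X C (ringKrullDim_gp k f hdim hC) fun x _ => ?_
  have h2 := hreg x
  have h3 : IsDomain (X.presheaf.stalk x) := inferInstance
  exact ⟨h3, Dix.RegTwoDim.ufd (ringKrullDim_stalk_le hdim.le x)⟩

/-- Curves on a smooth surface are effective Cartier divisors. -/
theorem isEff_of_smooth [Smooth (X ↘ Spec (CommRingCat.of k))] [IsIntegral X]
    (hdim : topologicalKrullDim X = 2) {C : X.IdealSheafData} (hC : IsCurve C) : BlowUp.IsEffCartierIdeal C :=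
  isEff_of_isCurve k (X ↘ Spec (CommRingCat.of k)) hdim (fun x => S1535.result k X x) hC

/-! ### The intersection numbers of two curves -/

/-- `(C.D) ≥ 0` for two distinct curves. -/
theorem dot_ic_ic_nonneg {C D : X.IdealSheafData} (hC : IsCurve C) (hCe : BlowUp.IsEffCartierIdeal C)
    (hD : BlowUp.IsEffCartierIdeal D) (h : gp hC ∉ D.support) : 0 ≤ dot k X (ic C hCe) (ic D hD) := by
  rw [dot_ic_eq]
  have := degOn_ic_nonpos k hC hD h
  linarith

theorem dot_ic_ic_pos {C D : X.IdealSheafData} (hC : IsCurve C) (hCe : BlowUp.IsEffCartierIdeal C)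
    (hD : BlowUp.IsEffCartierIdeal D) (h : gp hC ∉ D.support) (hne : ¬ Disjoint (C.support : Set X) D.support) :
    0 < dot k X (ic C hCe) (ic D hD) := by
  rw [dot_ic_eq]
  have := degOn_ic_neg k hC hD h hne
  linarith

theorem dot_ic_ic_eq_zero_iff {C D : X.IdealSheafData} (hC : IsCurve C) (hCe : BlowUp.IsEffCartierIdeal C)
    (hD : BlowUp.IsEffCartierIdeal D) (h : gp hC ∉ D.support) :
    dot k X (ic C hCe) (ic D hD) = 0 ↔ Disjoint (C.support : Set X) D.support := by
  constructor
  · intro h0
    by_contra hne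
    exact absurd h0 (dot_ic_ic_pos k hC hCe hD h hne).ne'
  · intro hne
    rw [dot_ic_eq, degOn_ic_eq_zero k hC hD hne, neg_zero]

end proper

end K464.Curves
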