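import Groth.Agent.Surf.K464.Comp
import Groth.Agent.Surf.K464.NegDef
import Groth.Agent.S3233
import Groth.Agent.Fga.RegSec

/-!
# Ample classes on a proper surface (K464)

* `dot_pos_of_ample` : `0 < dot (mk H) (mk H')` for `H`, `H'` ample on a proper scheme of dimension two.
-/

set_option autoImplicit false
universe u
open CategoryTheory CategoryTheory.Limits AlgebraicGeometry Opposite TopologicalSpace

namespace K464.Ample

open Groth.Agent.Grpsch.PicGrp Groth.Agent.Dix.IdealModCartier Groth.Agent Groth.Agent.Divis.EffCartier K464.Base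
open K464.Curves K464.DivLat K464.Comp K464.NegDef

section Unit

open Groth.Agent.Fdesc.LocGen

theorem mem_support_unit {X : Scheme.{u}} (x : X) : x ∈ CohB1.support (Coh.structureModule X) := by
  intro hsub
  have h1 : (Coh.structureModule X).presheaf.germ ⊤ x (Opens.mem_top _) (one ⊤) = 0 := Subsingleton.elim _ _
  obtain ⟨V, hVU, hxV, hV⟩ := Fga.RegSec.exists_res_eq_zero (Coh.structureModule X) (Opens.mem_top _) _ h1
  have h2 : one (X := X) V = 0 := by
    rw [← res_one hVU]
    exact hV
  have h5 : (1 : Γ(X, V)) = 0 := by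
    apply (isGen_one V).ext
    rw [h2, smul_zero, smul_zero]
  have : Nonempty V := ⟨⟨x, hxV⟩⟩
  exact one_ne_zero h5

theorem support_unit (X : Scheme.{u}) : CohB1.support (Coh.structureModule X) = Set.univ :=
  Set.eq_univ_of_forall mem_support_unit

end Unit

variable (k : Type u) [Field k] {X : Scheme.{u}} [X.Over (Spec (CommRingCat.of k))]
  [IsProper (X ↘ Spec (CommRingCat.of k))]

theorem dot_pos_of_ample (hdim : topologicalKrullDim X = 2) {H H' : X.Modules} (hH : PicF.IsInvertible H)
    (hH' : PicF.IsInvertible H') (hamp : CohB1.IsAmple H) (hamp' : CohB1.IsAmple H') :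
    0 < dot k X (mk H hH) (mk H' hH') := by
  obtain ⟨M, hM, ⟨e⟩⟩ := exists_inverse hH
  obtain ⟨M', hM', ⟨e'⟩⟩ := exists_inverse hH'
  have h1 := S3233.result k X 2 hdim.le ![H, H'] ![M, M'] (by
    intro i; fin_cases i
    · exact hamp
    · exact hamp') (by
    intro i; fin_cases i
    · exact ⟨e⟩
    · exact ⟨e'⟩) (Coh.structureModule X) (isCoh_unit k X) (by
    rw [support_unit]
    exact ((Homeomorph.Set.univ X).isHomeomorph.topologicalKrullDim_eq _).trans hdim)
  rw [intNum_eq_dot k X hdim.le hM hM'] at h1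
  have h2 : mk M hM = (mk H hH)⁻¹ := by
    rw [eq_inv_iff_mul_eq_one, mul_comm, mk_mul_mk, mk_eq_one_iff]; exact ⟨e⟩
  have h3 : mk M' hM' = (mk H' hH')⁻¹ := by
    rw [eq_inv_iff_mul_eq_one, mul_comm, mk_mul_mk, mk_eq_one_iff]; exact ⟨e'⟩
  rwa [h2, h3, dot_inv_inv k X hdim.le] at h1

end K464.Ample
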