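import Groth.Agent.Surf.K464.Curves

/-!
# Degrees of pullbacks of classes to curves (K464)

`Γ` a proper integral curve over `k`, `j : Γ ⟶ V` any morphism.

* `degC k Γ : Pic Γ → ℤ`, `degC_mk`, `degC_mul`, `degC_one/inv/pow/zpow/prod`.
* `pull_ic : pull g (ic D) = ic (D.comap g)`.
* `degC_pull_ic_nonpos`, `degC_pull_ic_neg`: sign of the degree of `O(-D)` along `j` when the generic point of `Γ` is
  not in `D`.
* `degOn_eq_degC : degOn k X C a = degC k C.subscheme (pull C.subschemeι a)`.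
-/

set_option autoImplicit false
universe u
open CategoryTheory CategoryTheory.Limits AlgebraicGeometry Opposite TopologicalSpace

namespace K464.DegCurve

open Groth.Agent.Grpsch.PicGrp Groth.Agent.Dix.IdealModCartier Groth.Agent Groth.Agent.Divis.EffCartier K464.Base
open K464.Curves

/-- Pulling back the class of `O(-D)`. -/
theorem pull_ic {X Y : Scheme.{u}} (g : Y ⟶ X) {D : X.IdealSheafData} (hD : BlowUp.IsEffCartierIdeal D)
    (hD' : BlowUp.IsEffCartierIdeal (D.comap g)) : pull g (ic D hD) = ic (D.comap g) hD' := by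
  rw [ic, ic, pull_mk, mk_eq_iff]
  exact pullback_idealMod g hD hD'

theorem isEff_comap {Γ V : Scheme.{u}} [IsIntegral Γ] (j : Γ ⟶ V) {D : V.IdealSheafData}
    (hD : BlowUp.IsEffCartierIdeal D) (h : j (genericPoint Γ) ∉ D.support) :
    BlowUp.IsEffCartierIdeal (D.comap j) := Dix.InterSurf.isEff_comap_of_generic j hD h

variable (k : Type u) [Field k] (Γ : Scheme.{u}) [Γ.Over (Spec (CommRingCat.of k))]

/-- The degree on a curve. -/
noncomputable def degC : Pic Γ → ℤ :=
  Quotient.lift (s := isoSetoid Γ) (fun L => Curv2.deg k Γ L.1 1) (fun a b ⟨e⟩ => by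
    change Curv2.deg k Γ a.1 1 = Curv2.deg k Γ b.1 1
    unfold Curv2.deg
    rw [euler_congr k Γ e])

theorem degC_mk {L : Γ.Modules} (hL : PicF.IsInvertible L) : degC k Γ (mk L hL) = Curv2.deg k Γ L 1 := rfl

variable [IsProper (Γ ↘ Spec (CommRingCat.of k))] [IsIntegral Γ] (hd : topologicalKrullDim Γ = 1)

omit [IsProper (Γ ↘ Spec (CommRingCat.of k))] [IsIntegral Γ] in
theorem degC_one : degC k Γ 1 = 0 := by
  rw [one_def, degC_mk, Dix.InterNum.deg_unit]

include hd

theorem degC_mul (a b : Pic Γ) : degC k Γ (a * b) = degC k Γ a + degC k Γ b := by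
  obtain ⟨A, hA, rfl⟩ := exists_mk a
  obtain ⟨B, hB, rfl⟩ := exists_mk b
  rw [mk_mul_mk]
  exact Dix.InterNum.deg_tensor k _ hd hA hB

theorem degC_inv (a : Pic Γ) : degC k Γ a⁻¹ = - degC k Γ a := by
  have h := degC_mul k Γ hd a a⁻¹
  rw [mul_inv_cancel, degC_one] at h
  linarith

theorem degC_pow (a : Pic Γ) (n : ℕ) : degC k Γ (a ^ n) = n * degC k Γ a := by
  induction n with
  | zero => rw [pow_zero, degC_one]; simp
  | succ n ih => rw [pow_succ, degC_mul k Γ hd, ih]; push_cast; ring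

theorem degC_zpow (a : Pic Γ) (n : ℤ) : degC k Γ (a ^ n) = n * degC k Γ a := by
  obtain ⟨m, rfl | rfl⟩ := n.eq_nat_or_neg
  · rw [zpow_natCast, degC_pow k Γ hd]
  · rw [zpow_neg, zpow_natCast, degC_inv k Γ hd, degC_pow k Γ hd]; ring

theorem degC_prod {ι : Type*} (s : Finset ι) (a : ι → Pic Γ) :
    degC k Γ (∏ i ∈ s, a i) = ∑ i ∈ s, degC k Γ (a i) := by
  classical
  induction s using Finset.induction_on with
  | empty => rw [Finset.prod_empty, Finset.sum_empty, degC_one]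
  | insert i s hi ih => rw [Finset.prod_insert hi, Finset.sum_insert hi, degC_mul k Γ hd, ih]

/-- `deg O(-E) = - dim_k H⁰(O_E)`. -/
theorem degC_ic {E : Γ.IdealSheafData} (hE : BlowUp.IsEffCartierIdeal E) :
    degC k Γ (ic E hE) = - (Module.finrank k (Coh.HH Γ (ClSub.quotMod E) 0) : ℤ) := by
  obtain ⟨N, hN, ⟨f⟩⟩ := Grpsch.PicGrp.exists_inverse (isInvertible_idealMod hE)
  have hinv : ClSub.IsInverseOf N (ClSub.idealMod E) := ⟨Ega2.Tens.swap _ _ ≪≫ f⟩
  have h1 := Dix.InterNum.deg_of_effCartier k Γ hd _ hE N hinv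
  have h2 := Dix.InterNum.deg_inverse k Γ hd hinv
  rw [ic, degC_mk]
  rw [h2] at h1
  linarith

variable {V : Scheme.{u}} (j : Γ ⟶ V) {D : V.IdealSheafData} (hD : BlowUp.IsEffCartierIdeal D)

theorem degC_pull_ic_nonpos (h : j (genericPoint Γ) ∉ D.support) : degC k Γ (pull j (ic D hD)) ≤ 0 := by
  rw [pull_ic j hD (isEff_comap j hD h), degC_ic k Γ hd]
  simp

theorem degC_pull_ic_neg (h : j (genericPoint Γ) ∉ D.support) (y : Γ) (hy : j y ∈ D.support) :
    degC k Γ (pull j (ic D hD)) < 0 := by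
  obtain ⟨N, hN, ⟨f⟩⟩ := Grpsch.PicGrp.exists_inverse (isInvertible_idealMod hD)
  have hinv : ClSub.IsInverseOf N (ClSub.idealMod D) := ⟨Ega2.Tens.swap _ _ ≪≫ f⟩
  have h1 := Models.H54.PosDeg.deg_pos k hd j hD h y hy N hinv
  have h2 : ic D hD = (mk N hN)⁻¹ := by rw [mk_eq_ic_inv hinv hN hD, inv_inv]
  rw [h2, map_inv, degC_inv k Γ hd, pull_mk, degC_mk]
  linarith

omit hd [IsProper (Γ ↘ Spec (CommRingCat.of k))] [IsIntegral Γ] in
/-- `deg` along a morphism which misses `D` vanishes. -/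
theorem degC_pull_ic_eq_zero (h : ∀ y : Γ, j y ∉ D.support) : degC k Γ (pull j (ic D hD)) = 0 := by
  obtain ⟨e⟩ := nonempty_pullback_idealMod j hD h
  have h1 : pull j (ic D hD) = 1 := by rw [ic, pull_mk, mk_eq_one_iff]; exact ⟨e⟩
  rw [h1, degC_one]

omit hd [Γ.Over (Spec (CommRingCat.of k))] [IsProper (Γ ↘ Spec (CommRingCat.of k))] [IsIntegral Γ] in
/-- The degree on a closed subscheme. -/
theorem degOn_eq_degC {X : Scheme.{u}} [X.Over (Spec (CommRingCat.of k))] (C : X.IdealSheafData) (a : Pic X) :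
    degOn k X C a = @degC k _ C.subscheme (overC k X C) (pull C.subschemeι a) := by
  obtain ⟨L, hL, rfl⟩ := exists_mk a
  rw [degOn_eq_deg]
  rfl

end K464.DegCurve
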