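import Groth.Agent.Surf.K464.PtCurve
import Groth.Agent.Surf.K464.Comp
import Groth.Agent.Pic13.H952.FibrePt
import Groth.Agent.Ega3B.ChiFib
import Groth.Agent.Surf.K456.FlatCurve
import Groth.Agent.Models.H50.PointInter
import Groth.Agent.S1026

/-!
# Surfaces fibred over a curve: intersection numbers with pullbacks (K464)

`f : X ⟶ B` dominant, `X` a proper integral surface, `B` a proper regular integral curve over an algebraically closed
field. `fd f N` is the degree of `N` on a fibre; `dot_pull`: `(f^*A . N) = deg A * fd N`; `dot_pull_pull`.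
-/

set_option autoImplicit false
universe u
open CategoryTheory CategoryTheory.Limits AlgebraicGeometry Opposite TopologicalSpace

namespace K464.FibCurve

open Groth.Agent Groth.Agent.Grpsch.PicGrp Groth.Agent.Fga.PicMon
open K464.Base K464.Curves K464.DegCurve K464.Cohom K464.PtCurve

section square

variable {X B : Scheme.{u}}

theorem exists_isPullback {T : Scheme.{u}} (τ : T ⟶ B) [IsClosedImmersion τ] (D : B.IdealSheafData)
    (hD : τ.ker = D) (f : X ⟶ B) :
    ∃ q : (D.comap f).subscheme ⟶ T, IsPullback (D.comap f).subschemeι q f τ := by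
  subst hD
  have h1 : IsPullback (pullback.fst f τ.ker.subschemeι) (pullback.snd f τ.ker.subschemeι) f τ.ker.subschemeι :=
    .of_hasPullback _ _
  have h2 : IsPullback (τ.ker.comap f).subschemeι ((τ.ker.comapIso f).hom ≫ pullback.snd f τ.ker.subschemeι) f
      τ.ker.subschemeι :=
    IsPullback.of_iso h1 (τ.ker.comapIso f).symm (Iso.refl _) (Iso.refl _) (Iso.refl _)
      (by simp) (by simp [-Scheme.IdealSheafData.comapIso_hom_snd]) (by simp) (by simp)
  refine ⟨(τ.ker.comapIso f).hom ≫ pullback.snd f τ.ker.subschemeι ≫ (asIso τ.toImage).inv, ?_⟩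
  refine IsPullback.of_iso h2 (Iso.refl _) (Iso.refl _) (asIso τ.toImage).symm (Iso.refl _)
      (by simp) (by simp) (by simp) ?_
  simp only [Iso.refl_hom, Category.comp_id, Iso.symm_hom, asIso_inv]
  rw [IsIso.eq_inv_comp]
  exact τ.toImage_imageι

variable (k : Type u) [Field k] [IsAlgClosed k] [X.Over (Spec (CommRingCat.of k))] [B.Over (Spec (CommRingCat.of k))]

theorem exists_point [IsProper (B ↘ Spec (CommRingCat.of k))] {b : B} (hb : IsClosed ({b} : Set B)) :
    ∃ (τ : Spec (CommRingCat.of k) ⟶ B), IsClosedImmersion τ ∧ τ ≫ (B ↘ Spec (CommRingCat.of k)) = 𝟙 _ ∧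
      b ∈ Set.range τ ∧ τ.ker = pt hb := by
  let τ := pointOfClosedPoint (B ↘ Spec (CommRingCat.of k)) b hb
  have h1 : τ ≫ (B ↘ Spec (CommRingCat.of k)) = 𝟙 _ := pointOfClosedPoint_comp _ _ _
  have h2 : IsClosedImmersion τ := isClosedImmersion_of_comp_eq_id _ _ h1
  have h3 : Set.range τ = {b} := by
    ext x
    constructor
    · rintro ⟨a, rfl⟩
      exact pointOfClosedPoint_apply _ _ _ a
    · rintro rfl
      exact ⟨IsLocalRing.closedPoint k, pointOfClosedPoint_apply _ _ _ _⟩
  refine ⟨τ, h2, h1, h3 ▸ rfl, ?_⟩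
  rw [Models.H50.PointInter.ker_eq_vanishingIdeal]
  congr 1
  apply Closeds.ext
  rw [Closeds.coe_closure, h3, hb.closure_eq]
  rfl

/-- The fibre over a closed point as a base change of a `k`-point. -/
theorem exists_isPullback_fibre [IsProper (B ↘ Spec (CommRingCat.of k))] (f : X ⟶ B)
    (hf : f ≫ (B ↘ Spec (CommRingCat.of k)) = X ↘ Spec (CommRingCat.of k)) {b : B} (hb : IsClosed ({b} : Set B)) :
    ∃ τ : Spec (CommRingCat.of k) ⟶ B, b ∈ Set.range τ ∧
      letI := overC k X ((pt hb).comap f)
      IsPullback ((pt hb).comap f).subschemeι (((pt hb).comap f).subscheme ↘ Spec (CommRingCat.of k)) f τ := by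
  obtain ⟨τ, h1, h2, h3, h4⟩ := exists_point k hb
  obtain ⟨q, hq⟩ := exists_isPullback τ (pt hb) h4 f
  refine ⟨τ, h3, ?_⟩
  have h5 : q = ((pt hb).comap f).subschemeι ≫ (X ↘ Spec (CommRingCat.of k)) := by
    rw [← hf, hq.w_assoc, h2, Category.comp_id]
  rw [h5] at hq
  exact hq

end square

section main

variable (k : Type u) [Field k] [IsAlgClosed k] {X B : Scheme.{u}} [X.Over (Spec (CommRingCat.of k))]
  [B.Over (Spec (CommRingCat.of k))] [IsProper (X ↘ Spec (CommRingCat.of k))] [IsProper (B ↘ Spec (CommRingCat.of k))]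
  [IsIntegral X] [IsIntegral B] (f : X ⟶ B)
  (hf : f ≫ (B ↘ Spec (CommRingCat.of k)) = X ↘ Spec (CommRingCat.of k))

omit [IsAlgClosed k] [IsIntegral X] [IsIntegral B] in
include hf in
theorem isProper : IsProper f := by
  have : IsProper (f ≫ (B ↘ Spec (CommRingCat.of k))) := by rw [hf]; infer_instance
  exact MorphismProperty.of_postcomp (W := @IsProper) (W' := @IsSeparated) f (B ↘ Spec (CommRingCat.of k))
    inferInstance this

omit [IsAlgClosed k] [IsIntegral X] [IsIntegral B] in
include hf in
theorem locallyOfFinitePresentation : LocallyOfFinitePresentation f := by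
  have := isProper k f hf
  have : AlgebraicGeometry.IsNoetherian B := CurvesB.CurveRR.isNoetherian_of_proper k B
  infer_instance

/-- The degree of `N` on a fibre. -/
noncomputable def fd (N : X.Modules) : ℤ :=
  PerfAux.eulerChar f N (genericPoint B) - PerfAux.eulerChar f (Coh.structureModule X) (genericPoint B)

variable (hX : topologicalKrullDim X ≤ (2 : ℕ)) (hB : topologicalKrullDim B = 1)
  (hreg : ∀ b : B, IsRegularLocalRing (B.presheaf.stalk b))

include hf in
omit [IsIntegral X] in
/-- The Euler characteristic of a module on a fibre is constant. -/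
theorem euler_fibre [Flat f] {b : B} (hb : IsClosed ({b} : Set B)) {N : X.Modules} (hN : PicF.IsInvertible N)
    {d : ℕ} (hd : topologicalKrullDim X ≤ d) :
    letI := overC k X ((pt hb).comap f)
    Curv2.euler k ((pt hb).comap f).subscheme ((Scheme.Modules.pullback ((pt hb).comap f).subschemeι).obj N) =
      PerfAux.eulerChar f N (genericPoint B) := by
  let _ := overC k X ((pt hb).comap f)
  have := isProper_sub k X ((pt hb).comap f)
  have := isProper k f hf
  have := locallyOfFinitePresentation k f hf
  obtain ⟨τ, hτ, H⟩ := exists_isPullback_fibre k f hf hb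
  have h1 := S1026.result f N (Ega3B.ChiFib.isFP_of_isInvertible hN) (Ega3B.ChiFib.isFlatOver_of_isInvertible f hN)
  have h2 := h1.apply_eq_of_isPreconnected (s := Set.univ) isPreconnected_univ (Set.mem_univ b)
    (Set.mem_univ (genericPoint B))
  have hdim : topologicalKrullDim ((pt hb).comap f).subscheme ≤ d :=
    (((pt hb).comap f).subschemeι.isClosedEmbedding.isInducing.topologicalKrullDim_le).trans hd
  have := Fga.IntAdd.isNoetherian k X
  have hN' := Fdesc.LocGen.isInvertible_pullback ((pt hb).comap f).subschemeι hN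
  have : AlgebraicGeometry.IsNoetherian ((pt hb).comap f).subscheme :=
    CurvesB.CurveRR.isNoetherian_of_proper k ((pt hb).comap f).subscheme
  have h3 := Pic13.H952.FibrePt.eulerCharLE_eq_eulerChar f τ ((pt hb).comap f).subschemeι H b hτ N
    (Ega2.QCohLocal.isQCoh_of_isInvertible hN) d (fun i hi =>
      @S0458.result ((pt hb).comap f).subscheme.toTopCat
        (inferInstanceAs (NoetherianSpace ((pt hb).comap f).subscheme)) d hdim (Coh.toAb _) i hi)
  rw [← h2, ← h3]
  exact (Fga.IntAdd.eulerCharLE_eq k ((pt hb).comap f).subscheme d hdim _).symm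

include hf in
omit [IsIntegral X] in
theorem degOn_fibre [Flat f] {b : B} (hb : IsClosed ({b} : Set B)) {N : X.Modules} (hN : PicF.IsInvertible N)
    {d : ℕ} (hd : topologicalKrullDim X ≤ d) : degOn k X ((pt hb).comap f) (mk N hN) = fd f N := by
  let _ := overC k X ((pt hb).comap f)
  rw [degOn_mk, euler_quotMod_tensor_sub k X _ hN, euler_quotMod_sub, euler_fibre k f hf hb hN hd, fd,
    ← euler_fibre k f hf hb Fdesc.LocGen.isInvertible_structureModule hd]
  congr 1
  exact euler_congr k _ (@asIso _ _ _ _ _ (isIso_pullOne ((pt hb).comap f).subschemeι))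

include hf in
omit [IsIntegral X] in
theorem fd_congr [Flat f] {N N' : X.Modules} (hN : PicF.IsInvertible N) (e : Nonempty (N ≅ N'))
    (hN' : PicF.IsInvertible N') {b : B} (hb : IsClosed ({b} : Set B))
    {d : ℕ} (hd : topologicalKrullDim X ≤ d) : fd f N = fd f N' := by
  rw [← degOn_fibre k f hf hb hN hd, ← degOn_fibre k f hf hb hN' hd, (mk_eq_iff hN hN').2 e]

variable [IsDominant f]

omit [IsAlgClosed k] [IsProper (X ↘ Spec (CommRingCat.of k))] [IsProper (B ↘ Spec (CommRingCat.of k))]
  [X.Over (Spec (CommRingCat.of k))] [B.Over (Spec (CommRingCat.of k))] in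
theorem map_generic : f (genericPoint X) = genericPoint B := by
  have h := (genericPoint_spec X).image f.continuous
  rw [Set.image_univ, f.denseRange.closure_eq] at h
  exact h.eq (genericPoint_spec B)

include hB in
omit [IsAlgClosed k] [IsProper (X ↘ Spec (CommRingCat.of k))] [IsProper (B ↘ Spec (CommRingCat.of k))]
  [X.Over (Spec (CommRingCat.of k))] [B.Over (Spec (CommRingCat.of k))] [Field k] in
theorem isEff_fibre {b : B} (hb : IsClosed ({b} : Set B)) (hE : BlowUp.IsEffCartierIdeal (pt hb)) :
    BlowUp.IsEffCartierIdeal ((pt hb).comap f) :=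
  isEff_comap f hE (by
    rw [mem_support_pt, map_generic]
    exact (ne_generic hB hb).symm)

include hX hB hf in
theorem dot_pull_pt [Flat f] {b : B} (hb : IsClosed ({b} : Set B)) (hE : BlowUp.IsEffCartierIdeal (pt hb))
    {N : X.Modules} (hN : PicF.IsInvertible N) :
    dot k X (pull f (ic (pt hb) hE)) (mk N hN) = - fd f N := by
  rw [pull_ic f hE (isEff_fibre f hB hb hE), dot_ic_eq, degOn_fibre k f hf hb hN hX]

include hX hB hreg hf in
/-- `(f^*A . N) = deg A * fd N`. -/
theorem dot_pull (A : Pic B) {N : X.Modules} (hN : PicF.IsInvertible N) :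
    dot k X (pull f A) (mk N hN) = degC k B A * fd f N := by
  have := isProper k f hf
  have := K456.FlatCurve.flat_of_dominant f hreg hB.le
  have : AlgebraicGeometry.IsNoetherian B := CurvesB.CurveRR.isNoetherian_of_proper k B
  have hE : ∀ (b : B) (hb : IsClosed ({b} : Set B)), BlowUp.IsEffCartierIdeal (pt hb) := fun b hb =>
    isEff_pt k (B ↘ Spec (CommRingCat.of k)) hB hreg hb
  have hA : A ∈ Subgroup.closure {a : Pic B | ∃ (b : B) (hb : IsClosed ({b} : Set B)), a = ic (pt hb) (hE b hb)} := by
    rw [closure_eq_top hB hE]; trivial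
  induction hA using Subgroup.closure_induction with
  | mem a ha =>
    obtain ⟨b, hb, rfl⟩ := ha
    rw [dot_pull_pt k f hf hX hB hb (hE b hb) hN, degC_pt k hB hb]
    ring
  | one => rw [map_one, dot_one_left, degC_one, zero_mul]
  | mul a a' _ _ h1 h2 => rw [map_mul, dot_mul_left k X hX, h1, h2, degC_mul k B hB]; ring
  | inv a _ h => rw [map_inv, dot_inv_left k X hX, h, degC_inv k B hB]; ring

include hX hB hreg hf in
theorem dot_pull_pull (A A' : Pic B) : dot k X (pull f A) (pull f A') = 0 := by
  have := isProper k f hf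
  have := K456.FlatCurve.flat_of_dominant f hreg hB.le
  have : AlgebraicGeometry.IsNoetherian B := CurvesB.CurveRR.isNoetherian_of_proper k B
  obtain ⟨b, -, hb⟩ := (isClosed_univ (X := B)).exists_closed_singleton Set.univ_nonempty
  obtain ⟨N, hN, hN'⟩ := exists_mk (pull f A')
  rw [hN', dot_pull k f hf hX hB hreg A hN, ← degOn_fibre k f hf hb hN hX, ← hN']
  have h1 : degOn k X ((pt hb).comap f) (pull f A') = 0 := by
    obtain ⟨τ, hτ, H⟩ := exists_isPullback_fibre k f hf hb
    rw [degOn_eq_degC, ← pull_comp, H.w, pull_comp, pic_spec_local k (pull τ A'), map_one, degC_one]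
  rw [h1, mul_zero]

end main

end K464.FibCurve
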