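import Groth.Agent.Surf.K456.Ruled
import Groth.Agent.Surf.K456.AmpleEx
import Groth.Agent.Surf.K464.FibCurve
import Groth.Agent.AbSch.K448.SmoothConn
import Groth.Agent.Surf.K455.ResOne
import Groth.Agent.Surf.K455.RelDim
import Groth.Agent.CohqB.ProjBC
import Groth.Agent.Sga5.ProjReg
import Groth.Agent.VarietyB.ProjSpaceProper
import Groth.Agent.S2330
import Groth.Agent.S2553
import Groth.Agent.S1025

/-!
# The generic fibre of a geometrically ruled surface (K464)

* `exists_closedImmersion`: a proper scheme over a field with an ample module is projective.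
* `isAlgClosed_residueField`, `geomInt_of_regular`: closed points over an algebraically closed field; regular integral
  proper schemes over an algebraically closed field are geometrically integral.
* `geomInt_generic`, `genus_generic`: the generic fibre of a fibration with closed fibres `P¹` is geometrically
  integral of genus zero.
-/

set_option autoImplicit false
universe u
open CategoryTheory CategoryTheory.Limits AlgebraicGeometry Opposite TopologicalSpace

namespace K464.Sect

open Groth.Agent Groth.Agent.Grpsch.PicGrp Groth.Agent.Fga.PicMon K464.Base K464.FibCurve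

theorem exists_closedImmersion (k : Type u) [Field k] (X : Scheme.{u}) [X.Over (Spec (CommRingCat.of k))]
    [IsProper (X ↘ Spec (CommRingCat.of k))] {L : X.Modules} (hL : CohB1.IsAmple L) :
    ∃ (N : ℕ) (ι : X ⟶ CohB1.ProjSpace N k), IsClosedImmersion ι ∧
      ι ≫ CohB1.ProjSpace.toSpec N k = X ↘ Spec (CommRingCat.of k) := by
  obtain ⟨n₀, hn₀⟩ := (S2330.result (X ↘ Spec (CommRingCat.of k)) L hL.1).2 hL
  obtain ⟨n, i, hi, hcomp, -⟩ := hn₀ n₀ le_rfl
  have h1 : i ≫ (CohqB.ProjBC.projSpaceOverIso n k).hom ≫ CohB1.ProjSpace.toSpec n k =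
      X ↘ Spec (CommRingCat.of k) := by
    rw [CohqB.ProjBC.projSpaceOverIso_hom_toSpec]
    exact hcomp
  refine ⟨n, i ≫ (CohqB.ProjBC.projSpaceOverIso n k).hom, ?_, by rw [Category.assoc, h1]⟩
  rw [IsClosedImmersion.iff_isProper_and_mono]
  have h2 : IsProper ((i ≫ (CohqB.ProjBC.projSpaceOverIso n k).hom) ≫ CohB1.ProjSpace.toSpec n k) := by
    rw [Category.assoc, h1]
    infer_instance
  have h3 : IsProper (CohB1.ProjSpace.toSpec n k) := VarietyB.ProjSpaceProper.isProper_toSpec n k
  exact ⟨IsProper.of_comp _ (CohB1.ProjSpace.toSpec n k), inferInstance⟩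

theorem isAlgClosed_residueField (k : Type u) [Field k] [IsAlgClosed k] (B : Scheme.{u})
    [B.Over (Spec (CommRingCat.of k))] [LocallyOfFiniteType (B ↘ (Spec (CommRingCat.of k)))] {b : B}
    (hb : IsClosed ({b} : Set B)) : IsAlgClosed (B.residueField b) := by
  let _ : Algebra k (B.residueField b) := Curv2.resAlgebra k B b
  have h1 : Function.Surjective (algebraMap k (B.residueField b)) := VarietyA.RegPoint.resMap_surjective k B hb
  exact IsAlgClosed.of_ringEquiv k _ (RingEquiv.ofBijective _ ⟨(algebraMap k (B.residueField b)).injective, h1⟩)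

theorem geomInt_of_regular (K : Type u) [Field K] [IsAlgClosed K] {F : Scheme.{u}}
    (p : F ⟶ Spec (CommRingCat.of K)) [IsProper p] [IsIntegral F]
    (hreg : ∀ z : F, IsRegularLocalRing (F.presheaf.stalk z)) : GeometricallyIntegral p := by
  have hs : Smooth p := K455.RelDim.smooth_of_regular K p hreg
  have := K448.SmoothConn.geometricallyReduced p
  have hc : CompactSpace F := (quasiCompact_iff_compactSpace p).mp inferInstance
  obtain ⟨z, -, hz⟩ := (isClosed_univ (X := F)).exists_closed_singleton Set.univ_nonempty
  let σ := pointOfClosedPoint p z hz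
  have hσ : σ ≫ p = 𝟙 _ := pointOfClosedPoint_comp _ _ _
  have hconn : ConnectedSpace (Spec (CommRingCat.of K)) := inferInstance
  have := K448.SmoothConn.geometricallyConnected_of_section p σ hσ
  exact K448.SmoothConn.geometricallyIntegral p

section main

variable (k : Type u) [Field k] [IsAlgClosed k] {X C : Scheme.{u}} [X.Over (Spec (CommRingCat.of k))]
  [C.Over (Spec (CommRingCat.of k))] [IsProper (X ↘ Spec (CommRingCat.of k))] [IsProper (C ↘ Spec (CommRingCat.of k))]
  [IsIntegral X] [IsIntegral C] (hdimC : topologicalKrullDim C = 1)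
  (hregC : ∀ b : C, IsRegularLocalRing (C.presheaf.stalk b))
  (π : X ⟶ C) [Surjective π]
  (hπ : π ≫ (C ↘ Spec (CommRingCat.of k)) = X ↘ Spec (CommRingCat.of k))
  (hfib : ∀ y : C, IsClosed ({y} : Set C) → Nonempty (pullback π (C.fromSpecResidueField y) ≅ CohB1.ProjSpace 1 k))

include hπ hfib in
omit [IsIntegral X] [IsIntegral C] [Surjective π] in
theorem geomInt_closed {y : C} (hy : IsClosed ({y} : Set C)) :
    GeometricallyIntegral (π.fiberToSpecResidueField y) := by
  have hK := isAlgClosed_residueField k C hy
  have := isProper k π hπ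
  obtain ⟨e⟩ := hfib y hy
  let e' : π.fiber y ≅ CohB1.ProjSpace 1 k := e
  have hint : IsIntegral (π.fiber y) := by
    have : Nonempty (π.fiber y) := ⟨e'.inv (genericPoint (CohB1.ProjSpace 1 k))⟩
    exact isIntegral_of_isOpenImmersion e'.hom
  have hp : IsProper (π.fiberToSpecResidueField y) :=
    inferInstanceAs (IsProper (pullback.snd π (C.fromSpecResidueField y)))
  refine geomInt_of_regular (C.residueField y) (π.fiberToSpecResidueField y) fun z => ?_
  have := Sga5.ProjReg.isRegularLocalRing_stalk 1 k (e'.hom z)
  exact IsRegularLocalRing.of_ringEquiv (asIso (e'.hom.stalkMap z)).commRingCatIsoToRingEquiv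

include hdimC hregC hπ hfib in
/-- The generic fibre is geometrically integral. -/
theorem geomInt_generic : GeometricallyIntegral (π.fiberToSpecResidueField (genericPoint C)) := by
  have := isProper k π hπ
  have := locallyOfFinitePresentation k π hπ
  have := K456.FlatCurve.flat_of_dominant π hregC hdimC.le
  have hc : CompactSpace C := (quasiCompact_iff_compactSpace (C ↘ Spec (CommRingCat.of k))).mp inferInstance
  obtain ⟨y, -, hy⟩ := (isClosed_univ (X := C)).exists_closed_singleton Set.univ_nonempty
  exact (genericPoint_specializes y).mem_open (S2553.result π) (geomInt_closed k π hπ hfib hy)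

include hdimC hregC hπ hfib in
/-- The generic fibre has genus zero. -/
theorem genus_generic :
    letI : (π.fiber (genericPoint C)).Over (Spec (CommRingCat.of (C.residueField (genericPoint C)))) :=
        ⟨π.fiberToSpecResidueField (genericPoint C)⟩
    Curv2.genus (C.residueField (genericPoint C)) (π.fiber (genericPoint C)) = 0 := by
  have := isProper k π hπ
  have := locallyOfFinitePresentation k π hπ
  have := K456.FlatCurve.flat_of_dominant π hregC hdimC.le
  have hc : CompactSpace C := (quasiCompact_iff_compactSpace (C ↘ Spec (CommRingCat.of k))).mp inferInstance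
  obtain ⟨y, -, hy⟩ := (isClosed_univ (X := C)).exists_closed_singleton Set.univ_nonempty
  have hO : PicF.IsInvertible (Coh.structureModule X) := Fdesc.LocGen.isInvertible_structureModule
  have h1 := S1025.result π (Coh.structureModule X) (Ega3B.ChiFib.isFP_of_isInvertible hO)
    (Ega3B.ChiFib.isFlatOver_of_isInvertible π hO) 1 1
  have h2 : Subsingleton (PerfAux.fiberH π (Coh.structureModule X) y 1) := by
    refine K456.Ruled.fiberH_vanish k π hπ hfib hO y hy ?_ 1 one_pos
    have h3 : K456.Ruled.fdeg k π y (Coh.structureModule X) = 0 := by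
      let _ := K456.Ruled.fibOver k π y
      obtain ⟨e⟩ := Ega3B.PullTensor.nonempty_pullUnitIso (π.fiberι y)
      change Curv2.deg k (π.fiber y) _ 1 = 0
      unfold Curv2.deg
      rw [euler_congr k (π.fiber y) e]
      push_cast; ring
    rw [h3]; norm_num
  have h4 : PerfAux.betti π (Coh.structureModule X) y 1 < 1 := by
    unfold PerfAux.betti
    rw [Module.finrank_zero_of_subsingleton]
    exact one_pos
  have h5 : PerfAux.betti π (Coh.structureModule X) (genericPoint C) 1 < 1 :=
    (genericPoint_specializes y).mem_open h1 h4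
  let _ : (π.fiber (genericPoint C)).Over (Spec (CommRingCat.of (C.residueField (genericPoint C)))) :=
        ⟨π.fiberToSpecResidueField (genericPoint C)⟩
  obtain ⟨e⟩ := Ega3B.PullTensor.nonempty_pullUnitIso (π.fiberι (genericPoint C))
  have h6 : PerfAux.betti π (Coh.structureModule X) (genericPoint C) 1 =
      Curv2.genus (C.residueField (genericPoint C)) (π.fiber (genericPoint C)) :=
    (hmapEquiv (C.residueField (genericPoint C)) (π.fiber (genericPoint C)) e 1).finrank_eq
  change Curv2.genus (C.residueField (genericPoint C)) (π.fiber (genericPoint C)) = 0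
  omega

end main

end K464.Sect
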