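import Groth.Agent.Surf.K464.DegCurve
import Groth.Agent.Surf.K464.RatConf
import Groth.Agent.Surf.K455.PicLoc
import Groth.Agent.Ega4dA.CurveLine
import Groth.Agent.Ega1.ReducedSub
import Groth.Agent.S1659

/-!
# Closed points of a regular integral curve (K464)

`pt hb` the ideal of a closed point, `isEff_pt`, `degC_pt` (`= -1` over an algebraically closed field),
`pic_induction`: the Picard group is generated by the classes of closed points.
-/

set_option autoImplicit false
universe u
open CategoryTheory CategoryTheory.Limits AlgebraicGeometry Opposite TopologicalSpace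

namespace K464.PtCurve

open Groth.Agent Groth.Agent.Grpsch.PicGrp Groth.Agent.Fga.PicMon
open K464.Base K464.Curves K464.DegCurve K464.Cohom

variable {B : Scheme.{u}}

/-- The reduced ideal of a closed point. -/
noncomputable abbrev pt {b : B} (hb : IsClosed ({b} : Set B)) : B.IdealSheafData :=
  Scheme.IdealSheafData.vanishingIdeal ⟨{b}, hb⟩

theorem support_pt {b : B} (hb : IsClosed ({b} : Set B)) : ((pt hb).support : Set B) = {b} :=
  Scheme.IdealSheafData.coe_support_vanishingIdeal _

theorem mem_support_pt {b : B} (hb : IsClosed ({b} : Set B)) (x : B) : x ∈ (pt hb).support ↔ x = b := by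
  rw [← SetLike.mem_coe, support_pt hb, Set.mem_singleton_iff]

theorem isIntegral_pt {b : B} (hb : IsClosed ({b} : Set B)) : IsIntegral (pt hb).subscheme := by
  have h1 : IsReduced (pt hb).subscheme := Ega1.ReducedSub.isReduced_subscheme_vanishingIdeal _
  have h2 : Set.range (pt hb).subschemeι = {b} := by
    rw [Scheme.IdealSheafData.range_subschemeι, support_pt]
  have h3 : Subsingleton (pt hb).subscheme := by
    refine ⟨fun x y => (pt hb).subschemeι.isClosedEmbedding.injective ?_⟩
    have hx : (pt hb).subschemeι x ∈ ({b} : Set B) := h2 ▸ Set.mem_range_self x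
    have hy : (pt hb).subschemeι y ∈ ({b} : Set B) := h2 ▸ Set.mem_range_self y
    rw [Set.mem_singleton_iff] at hx hy
    rw [hx, hy]
  have h4 : Nonempty (pt hb).subscheme := by
    obtain ⟨x, hx⟩ : b ∈ Set.range (pt hb).subschemeι := by rw [h2]; rfl
    exact ⟨x⟩
  have h5 : IrreducibleSpace (pt hb).subscheme :=
    { isPreirreducible_univ := Set.Subsingleton.isPreirreducible Set.subsingleton_univ
      toNonempty := h4 }
  exact isIntegral_of_irreducibleSpace_of_isReduced _

theorem gen_pt {b : B} (hb : IsClosed ({b} : Set B)) [IsIntegral (pt hb).subscheme] :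
    (pt hb).subschemeι (genericPoint (pt hb).subscheme) = b := by
  rw [← mem_support_pt hb, ← SetLike.mem_coe, ← Scheme.IdealSheafData.range_subschemeι]
  exact Set.mem_range_self _

section curve

variable (k : Type u) [Field k] (g : B ⟶ Spec (CommRingCat.of k)) [LocallyOfFiniteType g] [IsIntegral B]
  (hB : topologicalKrullDim B = 1)

include k g hB in
theorem ringKrullDim_pt {b : B} (hb : IsClosed ({b} : Set B)) : ringKrullDim (B.presheaf.stalk b) = 1 := by
  obtain ⟨a, t, n, h1, -, h3, h4, h5⟩ := CycA.IntLocal.exists_dims g b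
  have h6 : topologicalKrullDim (closure {b} : Set B) ≤ 0 := by
    rw [hb.closure_eq]
    exact topologicalKrullDim_zero_of_discreteTopology ({b} : Set B)
  rw [h3] at h6
  rw [hB] at h4
  have ht : t = 0 := by
    have : t ≤ 0 := by exact_mod_cast h6
    omega
  have hn : n = 1 := by exact_mod_cast h4.symm
  have ha : a = 1 := by omega
  rw [h1, ha]; rfl

include k g hB in
/-- Closed points of a regular curve are effective Cartier divisors. -/
theorem isEff_pt (hreg : ∀ b : B, IsRegularLocalRing (B.presheaf.stalk b)) {b : B} (hb : IsClosed ({b} : Set B)) :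
    BlowUp.IsEffCartierIdeal (pt hb) := by
  have : IsLocallyNoetherian B := LocallyOfFiniteType.isLocallyNoetherian g
  have := isIntegral_pt hb
  refine S1684.result B (pt hb) (by rw [gen_pt hb]; exact ringKrullDim_pt k g hB hb) fun x _ => ?_
  have h2 := hreg x
  have h3 : IsDomain (B.presheaf.stalk x) := inferInstance
  have h4 : ringKrullDim (B.presheaf.stalk x) ≤ 2 :=
    ringKrullDim_stalk_le (by rw [hB]; exact_mod_cast (by decide : (1:ℕ) ≤ 2)) x
  exact ⟨h3, Dix.RegTwoDim.ufd h4⟩

include hB in
theorem ne_generic {b : B} (hb : IsClosed ({b} : Set B)) : b ≠ genericPoint B := by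
  rintro rfl
  have h1 : closure {genericPoint B} = (Set.univ : Set B) := genericPoint_spec _
  rw [hb.closure_eq] at h1
  have : Subsingleton B := ⟨fun x y => by
    have hx : x ∈ ({genericPoint B} : Set B) := h1 ▸ Set.mem_univ x
    have hy : y ∈ ({genericPoint B} : Set B) := h1 ▸ Set.mem_univ y
    rw [Set.mem_singleton_iff] at hx hy
    rw [hx, hy]⟩
  have h2 : topologicalKrullDim B ≤ 0 := topologicalKrullDim_zero_of_discreteTopology B
  rw [hB] at h2
  exact absurd h2 (by decide)

/-- Proper closed subsets of an integral curve: every point is closed. -/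
theorem isClosed_of_ne {B : Scheme.{u}} [IsIntegral B] (hB : topologicalKrullDim B = 1) {x : B}
    (hx : x ≠ genericPoint B) : IsClosed ({x} : Set B) :=
  Ega4dA.Dim1Top.isClosed_of_specializes hB.le (genericPoint_specializes x) hx.symm

theorem finite_of_isClosed {B : Scheme.{u}} [IsIntegral B] [IsNoetherian B] (hB : topologicalKrullDim B = 1)
    (U : B.Opens) (hU : (U : Set B).Nonempty) : ((U : Set B)ᶜ).Finite := by
  refine Ega4dA.CurveLine.finite_compl hB.le fun y hy => ⟨genericPoint B, genericPoint_specializes y, ?_⟩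
  rintro rfl
  obtain ⟨x, hx⟩ := hU
  exact hy ((genericPoint_specializes x).mem_open U.2 hx)

/-- The degree of a closed point over an algebraically closed field. -/
theorem degC_pt {B : Scheme.{u}} [IsAlgClosed k] [B.Over (Spec (CommRingCat.of k))]
    [IsProper (B ↘ Spec (CommRingCat.of k))] [IsIntegral B] (hB : topologicalKrullDim B = 1) {b : B} (hb : IsClosed ({b} : Set B))
    (hE : BlowUp.IsEffCartierIdeal (pt hb)) : degC k B (ic (pt hb) hE) = -1 := by
  rw [degC_ic k B hB hE]
  let _ := overC k B (pt hb)
  have := isProper_sub k B (pt hb)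
  have := isIntegral_pt hb
  rw [(hhSub0 k (pt hb) 0).finrank_eq, VarietyA.CurveFin.finrank_h0_structure k (pt hb).subscheme]
  rfl

end curve

section pic

variable [IsIntegral B] [IsNoetherian B] (hB : topologicalKrullDim B = 1)
  (hE : ∀ (b : B) (hb : IsClosed ({b} : Set B)), BlowUp.IsEffCartierIdeal (pt hb))

omit [AlgebraicGeometry.IsNoetherian B] in
/-- The generic point is not in the support of an effective Cartier divisor. -/
theorem genericPoint_notMem {D : B.IdealSheafData} (hD : BlowUp.IsEffCartierIdeal D) :
    genericPoint B ∉ D.support := by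
  intro h
  obtain ⟨U, a, hxU, ha⟩ := Dix.IdealModCartier.exists_genOn hD (genericPoint B)
  have ha' := ha U le_rfl
  rw [Fdesc.LocGen.ores_refl] at ha'
  have : Nonempty U.1 := ⟨⟨_, hxU⟩⟩
  have hne : a ≠ 0 := nonZeroDivisors.ne_zero ha'.1
  have h1 : (B.basicOpen a : Set B).Nonempty := by
    rw [Set.nonempty_iff_ne_empty]
    intro h0
    apply hne
    rw [← basicOpen_eq_bot_iff]
    ext x
    rw [h0]; simp
  rw [Scheme.IdealSheafData.mem_support_iff_of_mem hxU, ha'.2, Scheme.zeroLocus_span,
    Scheme.zeroLocus_singleton] at h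
  obtain ⟨x, hx⟩ := h1
  exact h ((genericPoint_specializes x).mem_open (B.basicOpen a).2 hx)

omit [IsIntegral B] [AlgebraicGeometry.IsNoetherian B] in
theorem mem_support_prod {ι : Type*} (s : Finset ι) (P : ι → B.IdealSheafData) (x : B) :
    x ∈ (∏ i ∈ s, P i).support ↔ ∃ i ∈ s, x ∈ (P i).support := by
  classical
  induction s using Finset.induction_on with
  | empty =>
    rw [Finset.prod_empty, Scheme.IdealSheafData.one_eq_top, Scheme.IdealSheafData.support_top]
    simp only [Finset.notMem_empty, false_and, exists_false, iff_false]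
    exact fun h => h
  | insert i s hi ih =>
    rw [Finset.prod_insert hi, Scheme.IdealSheafData.support_mul, Finset.exists_mem_insert, ← ih]
    exact Iff.rfl

include hB in
/-- An effective divisor on a regular curve is a product of closed points. -/
theorem eff_mem_closure {D : B.IdealSheafData} (hD : BlowUp.IsEffCartierIdeal D) :
    ic D hD ∈ Subgroup.closure {a : Pic B | ∃ (b : B) (hb : IsClosed ({b} : Set B)), a = ic (pt hb) (hE b hb)} := by
  classical
  have hη : genericPoint B ∉ D.support := genericPoint_notMem hD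
  let U : B.Opens := ⟨(D.support : Set B)ᶜ, D.support.isClosed.isOpen_compl⟩
  have hfin : (D.support : Set B).Finite := by
    have := finite_of_isClosed hB U ⟨_, hη⟩
    rwa [show (U : Set B) = (D.support : Set B)ᶜ from rfl, compl_compl] at this
  have hcl : ∀ x ∈ D.support, IsClosed ({x} : Set B) := fun x hx =>
    isClosed_of_ne hB (by rintro rfl; exact hη hx)
  let s : Finset B := hfin.toFinset
  let e := s.equivFin
  let P : Fin s.card → B := fun i => (e.symm i).1
  have hP : ∀ i, P i ∈ D.support := fun i => by
    have := (e.symm i).2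
    rwa [Set.Finite.mem_toFinset] at this
  obtain ⟨a, ha⟩ := S1659.result B D hD s.card (fun i => pt (hcl _ (hP i))) (fun i => hE _ _)
    (fun i => isIntegral_pt _) (by
      intro x hx
      rw [Set.mem_iUnion]
      refine ⟨e ⟨x, by rwa [Set.Finite.mem_toFinset]⟩, ?_⟩
      rw [SetLike.mem_coe, mem_support_pt]
      simp [P])
  have hE' : ∀ i, BlowUp.IsEffCartierIdeal (pt (hcl _ (hP i))) := fun i => hE _ (hcl _ (hP i))
  rw [ic_congr hD (isEff_prod_pow _ _ hE' a) ha, ic_prod_pow Finset.univ _ hE' a]
  refine Subgroup.prod_mem _ fun i _ => Subgroup.pow_mem _ (Subgroup.subset_closure ?_) _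
  exact ⟨P i, hcl _ (hP i), rfl⟩

include hB in
/-- The Picard group of a regular curve is generated by the closed points. -/
theorem closure_eq_top :
    Subgroup.closure {a : Pic B | ∃ (b : B) (hb : IsClosed ({b} : Set B)), a = ic (pt hb) (hE b hb)} = ⊤ := by
  classical
  rw [eq_top_iff]
  intro c _
  obtain ⟨N, hN, rfl⟩ := exists_mk c
  obtain ⟨U, s, hηU, hs⟩ := (Fdesc.LocGen.isInvertible_iff N).1 hN (genericPoint B)
  have hUne : (U : Set B).Nonempty := ⟨_, hηU⟩
  have hfin := finite_of_isClosed hB U hUne
  have hcl : ∀ x ∈ hfin.toFinset, IsClosed ({x} : Set B) := fun x hx => by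
    rw [Set.Finite.mem_toFinset] at hx
    exact isClosed_of_ne hB (by rintro rfl; exact hx hηU)
  let D : B.IdealSheafData := ∏ x : {x // x ∈ hfin.toFinset}, pt (hcl x.1 x.2)
  have hD : BlowUp.IsEffCartierIdeal D := isEff_prod _ _ fun x => hE _ _
  have hsupp : (U : Set B) = (D.support : Set B)ᶜ := by
    ext x
    rw [Set.mem_compl_iff, SetLike.mem_coe, SetLike.mem_coe, mem_support_prod]
    simp only [mem_support_pt, Finset.mem_univ, true_and, Subtype.exists, exists_prop, exists_eq_right']
    rw [Set.Finite.mem_toFinset, Set.mem_compl_iff, not_not]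
    rfl
  obtain ⟨m, D', hD', -, h⟩ := K455.PicLoc.exists_divisor_off D hD hN hsupp hUne s hs
  have h1 : mk N hN * ic D' hD' = ic D hD ^ m := by
    rw [← ic_pow hD m, ic, ic, mk_mul_mk, mk_eq_iff, ← mc_eq_iff, mc_tensor, h,
      Models.H38.TrivGen.mc_idealMod_pow hD]
  have h2 : mk N hN = ic D hD ^ m * (ic D' hD')⁻¹ := by
    rw [← h1, mul_inv_cancel_right]
  rw [h2]
  exact Subgroup.mul_mem _ (Subgroup.pow_mem _ (eff_mem_closure hB hE hD) _)
    (Subgroup.inv_mem _ (eff_mem_closure hB hE hD'))

end pic

end K464.PtCurve
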