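import Groth.Agent.Surf.K464.ConSeq
import Groth.Agent.Surf.K464.PtCurve
import Groth.Agent.Surf.K463.Noether
import Groth.Agent.Variety.K432.NefBasic
import Groth.Agent.Models.H59.P1Fibre
import Groth.Agent.Models.H55.ExcCrit
import Groth.Agent.S7314

/-!
# Canonical classes under contraction sequences (K464)

* `canon_seq`: `K_Z = q^* K_X + D` with `D` effective, the points of `D` mapping to closed points.
* `exists_const`: if `K_X` is nef, a birational morphism to `X` is constant on the exceptional curves of point blow-ups.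
* `factor`: if `K_X` is nef, a birational morphism `Y ⟶ X` factors through every contraction sequence `Y ⟶ X'`.
* `isExcCurve`: a curve with `H¹(O_E) = 0` and `E² = -1` is exceptional of the first kind.
-/

set_option autoImplicit false
set_option linter.unusedSectionVars false
universe u
open CategoryTheory CategoryTheory.Limits AlgebraicGeometry Opposite TopologicalSpace

namespace K464.CanSeq

open Groth.Agent Groth.Agent.Dix.ExcPts Groth.Agent.Dix.PointIdeal K463.Bir K463.Noether
open Groth.Agent.Grpsch.PicGrp K464.Base K464.Curves K464.DegCurve K464.ConSeq Groth.Agent.Divis.EffCartier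

local notation "Sp" k:max => Spec (CommRingCat.of k)

variable {k : Type u} [Field k] [IsAlgClosed k]

theorem mem_support_mul {X : Scheme.{u}} (I J : X.IdealSheafData) (x : X) :
    x ∈ (I * J).support ↔ x ∈ I.support ∨ x ∈ J.support := by
  rw [Scheme.IdealSheafData.support_mul]; rfl

theorem mem_support_comap {X Y : Scheme.{u}} (f : Y ⟶ X) (I : X.IdealSheafData) (x : Y) :
    x ∈ (I.comap f).support ↔ f x ∈ I.support := by
  rw [Scheme.IdealSheafData.support_comap]; rfl

/-- The canonical class of the source of a contraction sequence. -/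
theorem canon_seq {Z X : Scheme.{u}} {q : Z ⟶ X} (hq : Models.IsContractionSeq q) :
    ∀ {s : Z ⟶ Sp k} {t : X ⟶ Sp k}, SPS k t → q ≫ t = s → ∀ {W : X.Modules}, ExtPow.IsExtPow 2 (Omega.sheaf t) W →
      ∀ (hWi : PicF.IsInvertible W) {W' : Z.Modules}, ExtPow.IsExtPow 2 (Omega.sheaf s) W' →
      ∀ (hWi' : PicF.IsInvertible W'),
      ∃ (D : Z.IdealSheafData) (hD : BlowUp.IsEffCartierIdeal D), mk W' hWi' = pull q (mk W hWi) * (ic D hD)⁻¹ ∧
        ∀ p ∈ D.support, IsClosed ({q p} : Set X) := by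
  induction hq with
  | @iso Z X e =>
    intro s t ht hst W hW hWi W' hW' hWi'
    have hs : SPS k s := ht.of_iso e hst
    let _ : Z.Over (Sp k) := ⟨s⟩
    let _ : X.Over (Sp k) := ⟨t⟩
    have := hs.int
    have : IsProper (Z ↘ (Sp k)) := hs.proper
    have : Smooth (Z ↘ (Sp k)) := hs.smooth
    have := ht.int
    have : IsProper (X ↘ (Sp k)) := ht.proper
    have : Smooth (X ↘ (Sp k)) := ht.smooth
    have h1 := K463.RRd.relDim k ht.dim
    have h2 := K463.RRd.relDim k hs.dim
    refine ⟨⊤, isEff_top, ?_, ?_⟩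
    · obtain ⟨f⟩ := K455.CanonOpen.nonempty_iso (X ↘ (Sp k)) (Z ↘ (Sp k)) 2 e.hom (𝟙 Z)
        (by rw [Category.id_comp]; exact hst) hW hW'
      rw [ic_top, inv_one, mul_one, pull_mk, mk_eq_iff]
      exact ⟨(Scheme.Modules.pullbackId Z).symm.app W' ≪≫ f⟩
    · intro p hp
      rw [Scheme.IdealSheafData.support_top] at hp
      exact hp.elim
  | @step Y Z X E ι b r hι hE hb hr ih =>
    intro s t ht hst W hW hWi W' hW' hWi'
    have hz : SPS k (r ≫ t) := seq_up hr ht
    obtain rfl : b ≫ r ≫ t = s := by rw [← hst, Category.assoc]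
    obtain ⟨hN, hbp, y, hy, hr', hreg, hd, hbl⟩ := hb
    have hY := hz.blowUp y hy b hbl
    have := hY.int
    have := hz.int
    have := ht.int
    obtain ⟨W₁, hW₁⟩ : ∃ W₁ : Z.Modules, ExtPow.IsExtPow 2 (Omega.sheaf (r ≫ t)) W₁ := by
      let _ : Z.Over (Sp k) := ⟨r ≫ t⟩
      exact K463.RRd.exists_W k (X := Z)
    have hW₁i : PicF.IsInvertible W₁ := by
      let _ : Z.Over (Sp k) := ⟨r ≫ t⟩
      have : IsProper (Z ↘ (Sp k)) := hz.proper
      have : Smooth (Z ↘ (Sp k)) := hz.smooth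
      exact K463.RRd.isInvertible_W k hz.dim hW₁
    obtain ⟨D, hD, hDe, hDc⟩ := ih ht rfl hW hWi hW₁ hW₁i
    have hbb := isBir_blowUp hz y hy b hbl
    have hDb : BlowUp.IsEffCartierIdeal (D.comap b) := by
      refine isEff_comap b hD ?_
      rw [hbb.gen]
      exact K464.PtCurve.genericPoint_notMem hD
    have h1 := blow_canon hz y hy b hbl hW₁ hW₁i hW' hWi'
    refine ⟨D.comap b * (pt y hy).comap b, isEff_mul hDb hbl.1, ?_, ?_⟩
    · rw [ic_mul hDb hbl.1, mul_inv, ← mul_assoc, pull_comp, eq_mul_inv_iff_mul_eq, h1, hDe, map_mul, map_inv,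
        pull_ic b hD hDb]
    · intro p hp
      rw [mem_support_mul, mem_support_comap, mem_support_comap] at hp
      rcases hp with hp | hp
      · rw [Scheme.Hom.comp_apply]
        exact hDc _ hp
      · rw [mem_support_pt] at hp
        rw [Scheme.Hom.comp_apply, hp]
        have h2 := (seq_bir hr ht).proper
        have h3 := r.isClosedMap _ hy
        rwa [Set.image_singleton] at h3

/-- The exceptional curve of a point blow-up is a curve. -/
theorem isCurve_exc {Y Z : Scheme.{u}} {z : Z ⟶ Sp k} (hz : SPS k z) (b : Y ⟶ Z) (y : Z)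
    (hy : IsClosed ({y} : Set Z)) (hbl : BlowUp.IsBlowUp b (pt y hy)) : IsCurve ((pt y hy).comap b) := by
  have := hz.noeth
  have := hz.isSurf.regular y
  have hd := hz.stalk_dim y hy
  have hi := K455.BlowCanon.isIntegral_exc b y hy hd hbl
  refine ⟨hi, ?_⟩
  rw [← dim_sub]
  obtain ⟨i, hi, hker, -⟩ := K455.ExcCurve.exists_curve b y hy hd hbl
  have h1 : i.ker = ((pt y hy).comap b).subschemeι.ker := by rw [Scheme.IdealSheafData.ker_subschemeι, hker]
  have h2 := IsClosedImmersion.isIso_lift ((pt y hy).comap b).subschemeι i h1.symm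
  have h3 := (IsClosedImmersion.lift ((pt y hy).comap b).subschemeι i h1.symm.le).homeomorph.isHomeomorph.topologicalKrullDim_eq
  rw [← h3]
  let _ : Field (Z.presheaf.stalk y ⧸ IsLocalRing.maximalIdeal (Z.presheaf.stalk y)) := Ideal.Quotient.field _
  exact Models.H59.P1Fibre.topologicalKrullDim_P1 _

/-- If `K_X` is nef, a birational morphism to `X` is constant on exceptional curves. -/
theorem exists_const {Y Z X : Scheme.{u}} [IsIntegral Y] [IsIntegral X] {s : Y ⟶ Sp k} {z : Z ⟶ Sp k} {t : X ⟶ Sp k}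
    (hs : SPS k s) (hz : SPS k z) (ht : SPS k t) (φ : Y ⟶ X) (hφt : φ ≫ t = s) (hφ : IsBir φ) {W : X.Modules}
    (hW : ExtPow.IsExtPow 2 (Omega.sheaf t) W) (hWi : PicF.IsInvertible W) (hnef : K432.NefBasic.Nef t W)
    (b : Y ⟶ Z) (hbz : b ≫ z = s) (y : Z) (hy : IsClosed ({y} : Set Z)) (hbl : BlowUp.IsBlowUp b (pt y hy)) :
    ∃ x₀ : X, ∀ p, b p = y → φ p = x₀ := by
  subst hbz
  let _ : Y.Over (Sp k) := ⟨b ≫ z⟩
  let _ : Z.Over (Sp k) := ⟨z⟩
  let _ : X.Over (Sp k) := ⟨t⟩
  have : IsProper (Y ↘ (Sp k)) := hs.proper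
  have : Smooth (Y ↘ (Sp k)) := hs.smooth
  have := hz.int
  have : IsProper (Z ↘ (Sp k)) := hz.proper
  have : Smooth (Z ↘ (Sp k)) := hz.smooth
  have := ht.proper
  have := hs.noeth
  have := ht.noeth
  have hφp := hφ.proper
  obtain ⟨V, hV, hVi⟩ := exists_open φ hφ
  have hseq : Models.IsContractionSeq φ := S7314.result φ ⟨V, hV.nonempty, hVi⟩ hs.isSurf.regular hs.dim
    ht.isSurf.regular ht.dim
  obtain ⟨W', hW'⟩ : ∃ W' : Y.Modules, ExtPow.IsExtPow 2 (Omega.sheaf (b ≫ z)) W' := K463.RRd.exists_W k (X := Y)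
  have hWi' : PicF.IsInvertible W' := K463.RRd.isInvertible_W k hs.dim hW'
  obtain ⟨W₁, hW₁⟩ : ∃ W₁ : Z.Modules, ExtPow.IsExtPow 2 (Omega.sheaf z) W₁ := K463.RRd.exists_W k (X := Z)
  have hW₁i : PicF.IsInvertible W₁ := K463.RRd.isInvertible_W k hz.dim hW₁
  obtain ⟨D, hD, hDe, hDc⟩ := canon_seq hseq ht hφt hW hWi hW' hWi'
  have hJ : BlowUp.IsEffCartierIdeal ((pt y hy).comap b) := hbl.1
  have hJC := isCurve_exc hz b y hy hbl
  obtain ⟨h1, h2, h3, -⟩ := blow_data hz y hy b hbl
  have h4 := blow_canon hz y hy b hbl hW₁ hW₁i hW' hWi'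
  have hd : topologicalKrullDim Y ≤ (2 : ℕ) := hs.dim.le
  -- the canonical class has degree `-1` on the exceptional curve
  have h5 : degOn k Y ((pt y hy).comap b) (mk W' hWi') = -1 := by
    have h6 : mk W' hWi' = pull b (mk W₁ hW₁i) * (ic ((pt y hy).comap b) hJ)⁻¹ := by
      rw [eq_mul_inv_iff_mul_eq, h4]
    rw [degOn_eq_neg_dot k Y hJ, h6, dot_mul_right k Y hd, dot_inv_right k Y hd, dot_comm k Y _ (pull b _), h2, h3]
    norm_num
  have h7 : 0 ≤ degOn k Y ((pt y hy).comap b) (pull φ (mk W hWi)) := by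
    have hp : IsProper (φ ≫ t) := inferInstance
    have h8 := hnef.pullback hWi φ
    rw [hφt] at h8
    have h9 := (K432.NefBasic.nef_iff_hyp (X := Y) _ (Fdesc.LocGen.isInvertible_pullback φ hWi)).2 h8
    rw [pull_mk, degOn_mk]
    exact h9 _ hJC.integral hJC.dim
  have hmem : gp hJC ∈ D.support := by
    by_contra hcon
    have h8 := degOn_ic_nonpos k hJC hD hcon
    rw [hDe, degOn_mul k hJC, degOn_inv k hJC] at h5
    linarith
  have hcl := hDc _ hmem
  refine ⟨φ (gp hJC), fun p hp => ?_⟩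
  have hp1 : p ∈ ((pt y hy).comap b).support := by
    rw [mem_support_comap, mem_support_pt]
    exact hp
  have hp2 : gp hJC ⤳ p := by
    rw [specializes_iff_mem_closure, closure_gp hJC]
    exact hp1
  have hp3 := hp2.map φ.continuous
  rw [specializes_iff_mem_closure, hcl.closure_eq] at hp3
  exact hp3

/-- **Factorization.** If `K_X` is nef, a birational morphism to `X` factors through every contraction sequence. -/
theorem factor {Y X' : Scheme.{u}} {g : Y ⟶ X'} (hg : Models.IsContractionSeq g) {X : Scheme.{u}} [IsIntegral X]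
    {t : X ⟶ Sp k} (ht : SPS k t) {W : X.Modules} (hW : ExtPow.IsExtPow 2 (Omega.sheaf t) W)
    (hWi : PicF.IsInvertible W) (hnef : K432.NefBasic.Nef t W) :
    ∀ {s : Y ⟶ Sp k}, SPS k s → ∀ [IsIntegral Y] (φ : Y ⟶ X), φ ≫ t = s → IsBir φ → ∃ h : X' ⟶ X, g ≫ h = φ := by
  induction hg with
  | iso e =>
    intro s hs _ φ hφ hbir
    exact ⟨e.inv ≫ φ, by simp⟩
  | @step Y Z X' E ι b r hι hE hb hr ih =>
    intro s hs _ φ hφt hbir
    have := hs.noeth
    obtain ⟨z, hbz, hz⟩ := contraction hs ι hE b hb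
    obtain ⟨hN, hbp, y, hy, hr', hreg, hd, hbl⟩ := id hb
    have := hz.int
    obtain ⟨x₀, hx₀⟩ := exists_const hs hz ht φ hφt hbir hW hWi hnef b hbz y hy hbl
    have hval : ∀ e₀ : E, b (ι e₀) = y := fun e₀ => by
      have h1 : (ι ≫ b).base e₀ ∈ ({y} : Set Z) := by rw [← hr']; exact ⟨e₀, rfl⟩
      exact h1
    have hrange : Set.range ((ι ≫ φ).base : E → X) = {x₀} := by
      apply Set.Subset.antisymm
      · rintro _ ⟨e₀, rfl⟩
        exact hx₀ _ (hval e₀)
      · rintro _ rfl
        have h1 : y ∈ Set.range ((ι ≫ b).base : E → Z) := by rw [hr']; rfl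
        obtain ⟨e₀, -⟩ := h1
        exact ⟨e₀, hx₀ _ (hval e₀)⟩
    obtain ⟨ψ, hψ, -⟩ := S7307.result ι hE b hb φ x₀ hrange
    have hψ' : b ≫ ψ = φ := hψ
    have hψt : ψ ≫ t = z := by
      refine hom_ext ι hE b hb _ _ ?_
      rw [← Category.assoc, hψ', hφt, hbz]
    have hψp : IsProper ψ := by
      have h1 : IsProper (ψ ≫ t) := by rw [hψt]; exact hz.proper
      have := ht.proper
      exact IsProper.of_comp ψ t
    obtain ⟨h, hh⟩ := ih hz ψ hψt (isBir_of_comp_left b ψ (isBir_blowUp hz y hy b hbl) (by rw [hψ']; exact hbir) hψp)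
    exact ⟨h, by rw [Category.assoc, hh, hψ']⟩

/-- A curve with `H¹(O_E) = 0` and `E² = -1` is exceptional of the first kind. -/
theorem isExcCurve {X : Scheme.{u}} [X.Over (Sp k)] [IsProper (X ↘ (Sp k))] {E : X.IdealSheafData}
    (hE : IsCurve E) (hEe : BlowUp.IsEffCartierIdeal E)
    (h1 : Subsingleton (Coh.HH E.subscheme (Coh.structureModule E.subscheme) 1))
    (hdeg : degOn k X E (ic E hEe) = 1) : Models.IsExcCurve E.subschemeι := by
  let _ := overC k X E
  have := isProper_sub k X E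
  have := hE.integral
  have hd : topologicalKrullDim E.subscheme = 1 := (dim_sub X E).trans hE.dim
  have hI : PicF.IsInvertible (ClSub.idealMod E.subschemeι.ker) := by
    rw [ker_subschemeι]; exact Dix.IdealModCartier.isInvertible_idealMod hEe
  have hL := Fdesc.LocGen.isInvertible_pullback E.subschemeι hI
  have hdeg' : Curv2.deg k E.subscheme ((Scheme.Modules.pullback E.subschemeι).obj
      (ClSub.idealMod E.subschemeι.ker)) 1 = 1 := by
    rw [← degOn_eq_deg k X E hI]
    have h2 : mk _ hI = ic E hEe := (mk_eq_iff _ _).2 ⟨eqToIso (by rw [ker_subschemeι])⟩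
    rw [h2, hdeg]
  obtain ⟨e, -, ⟨e'⟩⟩ := Models.H55.ExcCrit.exists_iso_twist k E.subscheme hd
    (VarietyA.CurveFin.finrank_h0_structure k E.subscheme) Module.finrank_zero_of_subsingleton _ hL hdeg'
  exact ⟨by rw [ker_subschemeι]; exact hEe, k, inferInstance, e,
    ⟨((Scheme.Modules.pullbackComp e.hom E.subschemeι).app _).symm ≪≫ e'⟩⟩

end K464.CanSeq
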