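import Groth.Agent.Surf.K464.FibCurve
import Groth.Agent.Surf.K464.Comp
import Groth.Agent.Surf.K456.Ruled
import Groth.Agent.Surf.K456.SecTriv
import Groth.Agent.Surf.K460.DPGlob
import Groth.Agent.Dix.Cast2
import Groth.Agent.Sga67.SerreVB
import Groth.Agent.Sga5.ProjReg

/-!
# Surfaces ruled over the projective line (K464)

Line bundles on `P¹`: `mk_twist`, `degC_twist`, `gg_twist`. For `π : X ⟶ P¹` with all closed fibres isomorphic to
`P¹`: `fdeg_eq`, `H1_twist` (`H¹(X, π^*O(m)) = 0` for `m ≥ 0`), `H2_of_fdeg` (`H²(X, L) = 0` if `L` has degree `≥ -1` on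
the fibres).
-/

set_option autoImplicit false
universe u
open CategoryTheory CategoryTheory.Limits AlgebraicGeometry Opposite TopologicalSpace

namespace K464.Hirz

open Groth.Agent Groth.Agent.Grpsch.PicGrp Groth.Agent.Fga.PicMon Groth.Agent.Fdesc.LocGen
open K464.Base K464.Curves K464.DegCurve K464.Cohom K464.PtCurve K464.FibCurve

section P1

variable (k : Type u) [Field k]

theorem isInv (b : ℤ) : PicF.IsInvertible (Twist.twistProjSpace 1 k b) := Sga67.SerreVB.isInvertible_twist 1 k b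

/-- The class of `O(1)` on the projective line. -/
noncomputable abbrev o1 : Pic (CohB1.ProjSpace 1 k) := mk (Twist.twistProjSpace 1 k 1) (isInv k 1)

theorem mk_twist_add (a b : ℤ) : mk _ (isInv k (a + b)) = mk _ (isInv k a) * mk _ (isInv k b) := by
  rw [mk_mul_mk, mk_eq_iff]
  obtain ⟨e⟩ := Sga67.SerreVB.nonempty_twist_mul 1 k a b
  exact ⟨e.symm⟩

theorem mk_twist_zero : mk _ (isInv k 0) = 1 := by
  rw [mk_eq_one_iff]
  exact Sga67.SerreVB.nonempty_twist_zero 1 k

theorem mk_twist (b : ℤ) : mk _ (isInv k b) = o1 k ^ b := by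
  induction b using Int.induction_on with
  | zero => rw [mk_twist_zero, zpow_zero]
  | succ n ih => rw [mk_twist_add, ih, zpow_add_one]
  | pred n ih =>
    have h := mk_twist_add k (-(n : ℤ) - 1) 1
    rw [sub_add_cancel, ih] at h
    rw [zpow_sub_one, h, mul_inv_cancel_right]

theorem gg_iff {X : Scheme.{u}} {L : X.Modules} (hL : PicF.IsInvertible L) :
    Curv2.IsGloballyGenerated L ↔ ∀ x : X, ∃ s : Coh.structureModule X ⟶ L, x ∈ CohB1.genLocus L s := by
  constructor
  · exact fun h x => VarietyB.GenLocusTensor.exists_mem_genLocus hL h x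
  · intro h
    choose s hs using h
    refine VarietyA.Dim1GlobGen.isGloballyGenerated (ι := X) s fun x => ⟨x, hs x⟩

theorem isProper_P1 : IsProper (CohB1.ProjSpace 1 k ↘ Spec (CommRingCat.of k)) :=
  inferInstanceAs (IsProper (CohB1.ProjSpace.toSpec 1 k))

theorem dim_P1 : topologicalKrullDim (CohB1.ProjSpace 1 k) = 1 := Models.H59.P1Fibre.topologicalKrullDim_P1 k

theorem hreg_P1 (y : CohB1.ProjSpace 1 k) : IsRegularLocalRing ((CohB1.ProjSpace 1 k).presheaf.stalk y) :=
  Sga5.ProjReg.isRegularLocalRing_stalk 1 k y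

theorem degC_twist (b : ℤ) : degC k (CohB1.ProjSpace 1 k) (mk _ (isInv k b)) = b := by
  have := isProper_P1 k
  have h := Dix.Cast2.wp2_deg k b
  rw [degC_mk]
  unfold Curv2.deg
  rw [ArSurf.curveDeg, Fga.IntAdd.eulerCharLE_eq k _ 1 (dim_P1 k).le, Fga.IntAdd.eulerCharLE_eq k _ 1 (dim_P1 k).le] at h
  push_cast
  linarith

theorem gg_twist [IsAlgClosed k] {b : ℤ} (hb : 0 ≤ b) : Curv2.IsGloballyGenerated (Twist.twistProjSpace 1 k b) := by
  have := isProper_P1 k
  refine S1533.result k (CohB1.ProjSpace 1 k) (dim_P1 k)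
    (VarietyA.CurveFin.finrank_h0_structure k (CohB1.ProjSpace 1 k)) _ (isInv k b) ?_
  have h1 : Curv2.genus k (CohB1.ProjSpace 1 k) = 0 := by
    have := K456.Ruled.H1_of_P1 (k := k) (Iso.refl (CohB1.ProjSpace 1 k))
    exact Module.finrank_zero_of_subsingleton
  have h2 : Curv2.deg k (CohB1.ProjSpace 1 k) (Twist.twistProjSpace 1 k b) 1 = b := degC_twist k b
  rw [h1, h2]
  simpa using hb

theorem ne_zero_of_mem_genLocus {X : Scheme.{u}} {L : X.Modules} (s : Coh.structureModule X ⟶ L) {x : X}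
    (hx : x ∈ CohB1.genLocus L s) : sec s ⊤ ≠ 0 := by
  intro h0
  have h1 := isGen_sec_genLocus s
  rw [← res_sec s (le_top : CohB1.genLocus L s ≤ ⊤), h0, map_zero] at h1
  have : Nonempty (CohB1.genLocus L s) := ⟨⟨x, hx⟩⟩
  have h2 : (1 : Γ(X, CohB1.genLocus L s)) = 0 := h1.ext (by rw [smul_zero, smul_zero])
  exact one_ne_zero h2

/-- A globally generated invertible module on a nonempty scheme has a nonzero section. -/
theorem exists_section_of_gg {X : Scheme.{u}} [Nonempty X] {L : X.Modules} (hL : PicF.IsInvertible L)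
    (h : Curv2.IsGloballyGenerated L) : ∃ s : Γ(L, ⊤), s ≠ 0 := by
  obtain ⟨x⟩ : Nonempty X := inferInstance
  obtain ⟨s, hs⟩ := (gg_iff hL).1 h x
  exact ⟨sec s ⊤, ne_zero_of_mem_genLocus s hs⟩

/-- The module `O(D)` has a nonzero section. -/
theorem exists_section_of_eff {X : Scheme.{u}} [IsIntegral X] {D : X.IdealSheafData}
    (hD : BlowUp.IsEffCartierIdeal D) {L : X.Modules} (hL : PicF.IsInvertible L) (h : mk L hL = (ic D hD)⁻¹) :
    ∃ s : Γ(L, ⊤), s ≠ 0 := by
  obtain ⟨s, hs⟩ := Groth.Agent.Surf.K460.DPGlob.exists_section_off hD hL h (genericPoint_notMem hD)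
  exact ⟨sec s ⊤, ne_zero_of_mem_genLocus s hs⟩

/-- Globally generated modules have nonnegative degree on curves. -/
theorem degOn_nonneg_of_gg {X : Scheme.{u}} [X.Over (Spec (CommRingCat.of k))]
    [IsProper (X ↘ Spec (CommRingCat.of k))] {C : X.IdealSheafData} (hC : IsCurve C) {L : X.Modules}
    (hL : PicF.IsInvertible L) (h : Curv2.IsGloballyGenerated L) : 0 ≤ degOn k X C (mk L hL) := by
  let _ := overC k X C
  have := isProper_sub k X C
  have := hC.integral
  have hd : topologicalKrullDim C.subscheme = 1 := (dim_sub X C).trans hC.dim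
  have hL' := isInvertible_pullback C.subschemeι hL
  obtain ⟨s, hs⟩ := exists_section_of_gg hL'
    (VarietyB.GGStalk.isGloballyGenerated_pullback C.subschemeι L h)
  rw [degOn_eq_deg k X C hL]
  refine S1518.result k C.subscheme hd _ hL' (homOf s) ?_
  intro h0
  apply hs
  rw [← res_refl _ s, ← sec_homOf, h0]
  rfl

/-- Generation of an invertible module along a rational curve. -/
theorem exists_gen_on_curve [IsAlgClosed k] {X : Scheme.{u}} [X.Over (Spec (CommRingCat.of k))]
    [IsProper (X ↘ Spec (CommRingCat.of k))] {C : X.IdealSheafData} (hC : IsCurve C)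
    (hg : Subsingleton (Coh.HH X (ClSub.quotMod C) 1)) {M : X.Modules}
    (hM : PicF.IsInvertible M) (h1 : Subsingleton (Coh.HH X (CohB1.tensorMod (ClSub.idealMod C) M) 1))
    (hdeg : 0 ≤ degOn k X C (mk M hM)) {x : X} (hx : x ∈ C.support) :
    ∃ s : Coh.structureModule X ⟶ M, x ∈ CohB1.genLocus M s := by
  let _ := overC k X C
  have := isProper_sub k X C
  have := hC.integral
  have hd : topologicalKrullDim C.subscheme = 1 := (dim_sub X C).trans hC.dim
  have hM' := isInvertible_pullback C.subschemeι hM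
  have hgen : Curv2.genus k C.subscheme = 0 := by
    have h2 : Subsingleton (Coh.HH C.subscheme (Coh.structureModule C.subscheme) 1) :=
      (hhSub0 k C 1).symm.toEquiv.subsingleton
    exact Module.finrank_zero_of_subsingleton
  have hgg := S1533.result k C.subscheme hd
    (VarietyA.CurveFin.finrank_h0_structure k C.subscheme) _ hM' (by
      rw [hgen, ← degOn_eq_deg k X C hM]; simpa using hdeg)
  obtain ⟨y, hy⟩ : x ∈ Set.range C.subschemeι := by
    rw [C.range_subschemeι]; exact hx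
  obtain ⟨σ, hσ⟩ := VarietyB.GenLocusTensor.exists_mem_genLocus hM' hgg y
  obtain ⟨t, ht⟩ := Dix.Cast1.wp1_lift C.subschemeι M hM
    (by rw [C.ker_subschemeι]; exact h1) (sec σ ⊤)
  refine ⟨homOf t, ?_⟩
  have h4 := Ega2.Weight.genLocus_pullHom C.subschemeι hM (homOf t)
  have h5 : Ega2.Weight.pullHom C.subschemeι (homOf t) = σ := by
    unfold Ega2.Weight.pullHom
    rw [sec_homOf, res_refl]
    change homOf (pullTop C.subschemeι t) = σ
    rw [ht, homOf_sec]
  rw [h5] at h4
  have h6 : y ∈ C.subschemeι ⁻¹ᵁ CohB1.genLocus M (homOf t) := h4 ▸ hσ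
  rw [← hy]
  exact h6

/-- Tensor products of globally generated invertible modules. -/
theorem gg_tensor {X : Scheme.{u}} {L M : X.Modules} (hL : PicF.IsInvertible L) (hM : PicF.IsInvertible M)
    (h : ∀ x : X, ∃ (U : X.Opens) (s : Γ(L, ⊤)) (t : Γ(M, ⊤)), x ∈ U ∧ IsGen (res L (le_top : U ≤ ⊤) s) ∧
      IsGen (res M (le_top : U ≤ ⊤) t)) : Curv2.IsGloballyGenerated (CohB1.tensorMod L M) := by
  rw [gg_iff (isInvertible_tensorMod hL hM)]
  intro x
  obtain ⟨U, s, t, hx, hs, ht⟩ := h x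
  refine ⟨homOf (tmul s t), ?_⟩
  have h1 : U ≤ CohB1.genLocus (CohB1.tensorMod L M) (homOf (tmul s t)) := by
    rw [le_genLocus_iff, sec_homOf, res_tmul]
    exact hs.tmul ht
  exact h1 hx

theorem exists_gen_of_gg {X : Scheme.{u}} {L : X.Modules} (hL : PicF.IsInvertible L)
    (h : Curv2.IsGloballyGenerated L) (x : X) :
    ∃ (U : X.Opens) (s : Γ(L, ⊤)), x ∈ U ∧ IsGen (res L (le_top : U ≤ ⊤) s) := by
  obtain ⟨s, hs⟩ := (gg_iff hL).1 h x
  refine ⟨CohB1.genLocus L s, sec s ⊤, hs, ?_⟩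
  rw [res_sec]
  exact isGen_sec_genLocus s

theorem exists_gen_of_mem {X : Scheme.{u}} {L : X.Modules} {x : X} (s : Coh.structureModule X ⟶ L)
    (hs : x ∈ CohB1.genLocus L s) :
    ∃ (U : X.Opens) (s : Γ(L, ⊤)), x ∈ U ∧ IsGen (res L (le_top : U ≤ ⊤) s) := by
  refine ⟨CohB1.genLocus L s, sec s ⊤, hs, ?_⟩
  rw [res_sec]
  exact isGen_sec_genLocus s

theorem gg_structure {X : Scheme.{u}} : Curv2.IsGloballyGenerated (Coh.structureModule X) := by
  rw [gg_iff isInvertible_structureModule]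
  intro x
  refine ⟨homOf (one ⊤), ?_⟩
  have h1 : (⊤ : X.Opens) ≤ CohB1.genLocus (Coh.structureModule X) (homOf (one ⊤)) := by
    rw [le_genLocus_iff, sec_homOf, res_refl]
    exact isGen_one ⊤
  exact h1 trivial

theorem gg_tensor_gg {X : Scheme.{u}} {L M : X.Modules} (hL : PicF.IsInvertible L) (hM : PicF.IsInvertible M)
    (h : Curv2.IsGloballyGenerated L) (h' : Curv2.IsGloballyGenerated M) :
    Curv2.IsGloballyGenerated (CohB1.tensorMod L M) := by
  refine gg_tensor hL hM fun x => ?_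
  obtain ⟨U, s, hx, hs⟩ := exists_gen_of_gg hL h x
  obtain ⟨V, t, hx', ht⟩ := exists_gen_of_gg hM h' x
  refine ⟨U ⊓ V, s, t, ⟨hx, hx'⟩, ?_, ?_⟩
  · rw [← res_res L le_top (inf_le_left : U ⊓ V ≤ U)]
    exact hs.res _
  · rw [← res_res M le_top (inf_le_right : U ⊓ V ≤ V)]
    exact ht.res _

theorem gg_tensorPow {X : Scheme.{u}} {L : X.Modules} (hL : PicF.IsInvertible L)
    (h : Curv2.IsGloballyGenerated L) (n : ℕ) : Curv2.IsGloballyGenerated (CohB1.tensorPow L n) := by
  induction n with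
  | zero => exact gg_structure
  | succ n ih => exact gg_tensor_gg (isInvertible_tensorPow hL n) hL ih h

end P1

section main

variable (k : Type u) [Field k] [IsAlgClosed k] {X : Scheme.{u}} [X.Over (Spec (CommRingCat.of k))]
  [IsProper (X ↘ Spec (CommRingCat.of k))] [IsIntegral X] (hX : topologicalKrullDim X ≤ (2 : ℕ))
  (π : X ⟶ CohB1.ProjSpace 1 k) [Surjective π]
  (hπ : π ≫ (CohB1.ProjSpace 1 k ↘ Spec (CommRingCat.of k)) = X ↘ Spec (CommRingCat.of k))

include hX hπ in
theorem dot_f {L : X.Modules} (hL : PicF.IsInvertible L) :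
    dot k X (pull π (o1 k)) (mk L hL) = fd π L := by
  have := isProper_P1 k
  rw [dot_pull k π hπ hX (dim_P1 k) (hreg_P1 k) _ hL]
  have h := degC_twist k 1
  rw [h, one_mul]

include hX hπ in
/-- The degree on the fibres. -/
theorem fdeg_eq {L : X.Modules} (hL : PicF.IsInvertible L) (y : CohB1.ProjSpace 1 k)
    (hy : IsClosed ({y} : Set (CohB1.ProjSpace 1 k))) :
    K456.Ruled.fdeg k π y L = dot k X (pull π (o1 k)) (mk L hL) := by
  have := isProper_P1 k
  have := isProper k π hπ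
  have := K456.FlatCurve.flat_of_dominant π (hreg_P1 k) (dim_P1 k).le
  have hE := isEff_pt k (CohB1.ProjSpace 1 k ↘ Spec (CommRingCat.of k)) (dim_P1 k) (hreg_P1 k) hy
  have h1 := K456.Ruled.intNum_fiber k π hX y hy hL
  rw [← K456.Ruled.comap_vanishingIdeal π y hy,
    intNum_eq_dot k X hX hL (Dix.IdealModCartier.isInvertible_idealMod (isEff_fibre π (dim_P1 k) hy hE))] at h1
  have h2 := dot_pull_pt k π hπ hX (dim_P1 k) hy hE hL
  rw [pull_ic π hE (isEff_fibre π (dim_P1 k) hy hE), dot_comm] at h2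
  rw [dot_f k hX π hπ hL]
  have h3 : dot k X (mk L hL) (ic ((pt hy).comap π) (isEff_fibre π (dim_P1 k) hy hE)) =
    - K456.Ruled.fdeg k π y L := h1
  rw [h3] at h2
  linarith

include hX hπ in
theorem dot_f_f : dot k X (pull π (o1 k)) (pull π (o1 k)) = 0 := by
  have := isProper_P1 k
  exact dot_pull_pull k π hπ hX (dim_P1 k) (hreg_P1 k) _ _

variable (hfib : ∀ y : CohB1.ProjSpace 1 k, IsClosed ({y} : Set (CohB1.ProjSpace 1 k)) →
  Nonempty (pullback π ((CohB1.ProjSpace 1 k).fromSpecResidueField y) ≅ CohB1.ProjSpace 1 k))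

include hX hπ hfib in
/-- `H¹(X, π^*O(m)) = 0` for `m ≥ 0`. -/
theorem H1_twist {m : ℤ} (hm : 0 ≤ m) :
    Subsingleton (Coh.HH X ((Scheme.Modules.pullback π).obj (Twist.twistProjSpace 1 k m)) 1) := by
  have := isProper_P1 k
  have hinj : HasInjectiveResolutions X.Modules := inferInstance
  have hL := isInvertible_pullback π (isInv k m)
  have hd : ∀ y : CohB1.ProjSpace 1 k, IsClosed ({y} : Set (CohB1.ProjSpace 1 k)) →
      K456.Ruled.fdeg k π y ((Scheme.Modules.pullback π).obj (Twist.twistProjSpace 1 k m)) = (0 : ℕ) := fun y hy => by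
    rw [fdeg_eq k hX π hπ hL y hy, ← pull_mk π (isInv k m),
      dot_pull_pull k π hπ hX (dim_P1 k) (hreg_P1 k)]
    rfl
  have hd' : ∀ y : CohB1.ProjSpace 1 k, IsClosed ({y} : Set (CohB1.ProjSpace 1 k)) →
      -1 ≤ K456.Ruled.fdeg k π y ((Scheme.Modules.pullback π).obj (Twist.twistProjSpace 1 k m)) := fun y hy => by
    rw [hd y hy]; norm_num
  have h1 := Ega2.QCohLocal.isFinLocFreeOfRank_one_iff.1
    (K456.Ruled.isFinLocFreeOfRank_push k (dim_P1 k) (hreg_P1 k) π hπ hfib 0 hL hd)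
  obtain ⟨e0⟩ := K456.Ruled.leray k (dim_P1 k) (hreg_P1 k) π hπ hfib hL hd' 0
  obtain ⟨e1⟩ := K456.Ruled.leray k (dim_P1 k) (hreg_P1 k) π hπ hfib hL hd' 1
  obtain ⟨s, hs⟩ := exists_section_of_gg hL (VarietyB.GGStalk.isGloballyGenerated_pullback π _ (gg_twist k hm))
  have hnt : Nontrivial (Coh.HH X ((Scheme.Modules.pullback π).obj (Twist.twistProjSpace 1 k m)) 0) :=
    K456.SecTriv.nontrivial_of_ne_zero hs
  have hnt' := e0.symm.toEquiv.nontrivial
  obtain ⟨t, ht⟩ := K456.SecTriv.exists_ne_zero_of_nontrivial hnt'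
  have hdeg : 0 ≤ Curv2.deg k (CohB1.ProjSpace 1 k) ((Coh.push π).obj
      ((Scheme.Modules.pullback π).obj (Twist.twistProjSpace 1 k m))) 1 := by
    refine S1518.result k (CohB1.ProjSpace 1 k) (dim_P1 k) _ h1 (homOf t) ?_
    intro h0
    apply ht
    rw [← res_refl _ t, ← sec_homOf, h0]
    rfl
  have h2 := K456.Ruled.H1_of_deg (Iso.refl (CohB1.ProjSpace 1 k)) h1 (by linarith)
  exact e1.toEquiv.subsingleton

include hX hπ hfib in
/-- `H²(X, L) = 0` if `L` has degree at least `-1` on the fibres. -/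
theorem H2_of_fdeg {L : X.Modules} (hL : PicF.IsInvertible L)
    (hdeg : -1 ≤ dot k X (pull π (o1 k)) (mk L hL)) : Subsingleton (Coh.HH X L 2) := by
  have := isProper_P1 k
  have hinj : HasInjectiveResolutions X.Modules := inferInstance
  obtain ⟨e⟩ := K456.Ruled.leray k (dim_P1 k) (hreg_P1 k) π hπ hfib hL (fun y hy => by
    rw [fdeg_eq k hX π hπ hL y hy]; exact hdeg) 2
  have : AlgebraicGeometry.IsNoetherian (CohB1.ProjSpace 1 k) :=
    CurvesB.CurveRR.isNoetherian_of_proper k (CohB1.ProjSpace 1 k)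
  have h2 : Subsingleton (Coh.HH (CohB1.ProjSpace 1 k) ((Coh.push π).obj L) 2) :=
    @S0458.result (CohB1.ProjSpace 1 k).toTopCat
      (inferInstanceAs (NoetherianSpace (CohB1.ProjSpace 1 k))) 1 (dim_P1 k).le (Coh.toAb _) 2 (by norm_num)
  exact e.toEquiv.subsingleton

end main

end K464.Hirz
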