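import Groth.Agent.Surf.K464.DegCurve
import Groth.Agent.Surf.K464.Comp
import Groth.Agent.Surf.K464.NegDef

/-!
# Negative definiteness from a function on a neighbourhood of the curves (K464)

* `prin a` : the ideal sheaf generated by a global section `a` of an integral scheme, `genOn_prin`, `isEff_prin`,
  `ic_prin`, `mem_support_prin`.
* `isEff_comap_ι`: restriction of an effective Cartier ideal to an open.
* `exists_rows` : `a ≠ 0` on `V ⊇ ⋃ C_i`, vanishing on the `C_i` gives `z > 0` with `Z.C_j ≤ 0`, and `< 0` if a further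
  component of `V(a)` meets `C_j`.
* `negDef_of_local`.
-/

set_option autoImplicit false
universe u
open CategoryTheory CategoryTheory.Limits AlgebraicGeometry Opposite TopologicalSpace

namespace K464.LocalNeg

open Groth.Agent.Grpsch.PicGrp Groth.Agent.Dix.IdealModCartier Groth.Agent Groth.Agent.Divis.EffCartier K464.Base
open K464.Curves K464.DegCurve K464.DivLat K464.NegDef Groth.Agent.Divis.CartierBasic

section prin

variable {W : Scheme.{u}} [IsIntegral W]

/-- The ideal sheaf generated by a global section. -/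
noncomputable def prin (a : Γ(W, ⊤)) : W.IdealSheafData := Scheme.IdealSheafData.ofIdealTop (Ideal.span {a})

theorem genOn_prin {a : Γ(W, ⊤)} (ha : a ≠ 0) : GenOn (prin a) a := by
  intro V hV
  constructor
  · by_cases hne : Nonempty V.1
    · apply mem_nonZeroDivisors_of_ne_zero
      intro h0
      apply ha
      have h1 := map_injective_of_isIntegral (X := W) (homOfLE hV)
      apply h1
      rw [map_zero]
      exact h0
    · have : Subsingleton Γ(W, V.1) := by
        have hV0 : V.1 = ⊥ := by
          ext x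
          simp only [SetLike.mem_coe]
          constructor
          · intro hx; exact (hne ⟨⟨x, hx⟩⟩).elim
          · intro hx; exact hx.elim
        rw [hV0]
        exact inferInstance
      exact mem_nonZeroDivisors_iff.2 ⟨fun x _ => Subsingleton.elim _ _, fun x _ => Subsingleton.elim _ _⟩
  · rw [prin, Scheme.IdealSheafData.ofIdealTop_ideal, Ideal.map_span, Set.image_singleton]
    rfl

theorem isEff_prin {a : Γ(W, ⊤)} (ha : a ≠ 0) : BlowUp.IsEffCartierIdeal (prin a) := by
  intro x
  obtain ⟨V, hxV, -⟩ := exists_affine_mem_le (⊤ : W.Opens) x trivial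
  obtain ⟨h1, h2⟩ := genOn_prin ha V le_top
  exact ⟨V, hxV, _, h1, h2⟩

theorem ic_prin {a : Γ(W, ⊤)} (ha : a ≠ 0) : ic (prin a) (isEff_prin ha) = 1 := by
  rw [ic, mk_eq_one_iff]
  obtain ⟨e⟩ := idealMod_principal (genOn_prin ha)
  exact ⟨e.symm⟩

omit [IsIntegral W] in
theorem mem_support_prin (a : Γ(W, ⊤)) (x : W) : x ∈ (prin a).support ↔ x ∉ W.basicOpen a := by
  obtain ⟨V, hxV, -⟩ := exists_affine_mem_le (⊤ : W.Opens) x trivial
  rw [Scheme.IdealSheafData.mem_support_iff_of_mem (U := V) hxV, prin, Scheme.IdealSheafData.ofIdealTop_ideal,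
    Ideal.map_span, Set.image_singleton, Scheme.zeroLocus_span, Scheme.zeroLocus_singleton]
  simp only [Set.mem_compl_iff, SetLike.mem_coe, not_iff_not]
  rw [Scheme.basicOpen_res]
  constructor
  · rintro ⟨-, h⟩; exact h
  · intro h; exact ⟨hxV, h⟩

end prin

section germ

/-- If the germ of `c` at `t` lies in the prime `q` of the stalk, then `c` vanishes at the corresponding point. -/
theorem notMem_basicOpen_of_germ_mem {T : Scheme.{u}} (O : T.Opens) (c : Γ(T, O)) (t : T) (ht : t ∈ O)
    (q : PrimeSpectrum (T.presheaf.stalk t)) (hq : T.presheaf.germ O t ht c ∈ q.asIdeal) :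
    T.fromSpecStalk t q ∈ O ∧ T.fromSpecStalk t q ∉ T.basicOpen c := by
  have hsp : T.fromSpecStalk t q ⤳ t := by
    have := T.range_fromSpecStalk (x := t)
    have h1 : T.fromSpecStalk t q ∈ Set.range (T.fromSpecStalk t) := ⟨q, rfl⟩
    rw [this] at h1
    exact h1
  have hwO : T.fromSpecStalk t q ∈ O := hsp.mem_open O.2 ht
  refine ⟨hwO, fun hw => ?_⟩
  rw [Scheme.mem_basicOpen T c _ hwO] at hw
  have h2 : Spec.map (T.presheaf.stalkSpecializes hsp) (IsLocalRing.closedPoint _) = q := by
    apply (T.fromSpecStalk t).isEmbedding.injective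
    rw [← Scheme.Hom.comp_apply, Scheme.SpecMap_stalkSpecializes_fromSpecStalk,
      Scheme.fromSpecStalk_closedPoint]
  have h3 : (T.presheaf.stalkSpecializes hsp).hom (T.presheaf.germ O t ht c) ∈
      (IsLocalRing.maximalIdeal (T.presheaf.stalk (T.fromSpecStalk t q))) := by
    rw [← h2] at hq
    exact hq
  have h4 : (T.presheaf.stalkSpecializes hsp).hom (T.presheaf.germ O t ht c) =
      T.presheaf.germ O _ hwO c := TopCat.Presheaf.germ_stalkSpecializes_apply _ _ _ _
  rw [h4] at h3
  exact h3 hw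

/-- A nonzero function does not vanish at the generic point. -/
theorem genericPoint_mem_basicOpen {T : Scheme.{u}} [IsIntegral T] {O : T.Opens} [hO : Nonempty O] {c : Γ(T, O)}
    (hc : c ≠ 0) : genericPoint T ∈ T.basicOpen c := by
  have hg : genericPoint T ∈ O := (genericPoint_spec T).mem_open_set_iff O.2 |>.2 (by
    obtain ⟨x⟩ := hO
    exact ⟨x.1, trivial, x.2⟩)
  rw [Scheme.mem_basicOpen T c _ hg]
  have h1 : T.presheaf.germ O _ hg c ≠ 0 := by
    intro h0
    apply hc
    apply Scheme.germToFunctionField_injective T O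
    rw [map_zero]
    exact h0
  have h2 : IsField (T.functionField) := Field.toIsField _
  obtain ⟨b, hb⟩ := h2.mul_inv_cancel (a := (T.presheaf.germ O _ hg c : T.functionField)) h1
  exact IsUnit.of_mul_eq_one b hb

end germ

section restrict

variable {X : Scheme.{u}} [IsIntegral X] (V : X.Opens)

theorem genericPoint_notMem {D : X.IdealSheafData} (hD : BlowUp.IsEffCartierIdeal D) :
    genericPoint X ∉ D.support := by
  intro h
  have h1 := (mem_support_iff_stalkIdeal_ne_top D (genericPoint X)).1 h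
  obtain ⟨g, hg, hgs⟩ := exists_stalkIdeal_eq_span hD (genericPoint X)
  apply h1
  rw [hgs, Ideal.span_singleton_eq_top]
  have h2 : IsField (X.functionField) := Field.toIsField _
  obtain ⟨b, hb⟩ := h2.mul_inv_cancel (a := (g : X.functionField)) (nonZeroDivisors.ne_zero hg)
  exact IsUnit.of_mul_eq_one b hb

theorem isEff_comap_ι [Nonempty V] {D : X.IdealSheafData} (hD : BlowUp.IsEffCartierIdeal D) :
    BlowUp.IsEffCartierIdeal (D.comap V.ι) := by
  have : IsIntegral V.toScheme := inferInstance
  refine Dix.InterSurf.isEff_comap_of_generic V.ι hD ?_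
  rw [genericPoint_eq_of_isOpenImmersion V.ι]
  exact genericPoint_notMem hD

end restrict

section main

variable (k : Type u) [Field k] {X : Scheme.{u}} [X.Over (Spec (CommRingCat.of k))]
  [IsProper (X ↘ Spec (CommRingCat.of k))] [IsIntegral X] [IsLocallyNoetherian X] (hdim : topologicalKrullDim X ≤ (2 : ℕ))
  {ι : Type*} [Fintype ι] [DecidableEq ι] {C : ι → X.IdealSheafData} (hE : ∀ i, BlowUp.IsEffCartierIdeal (C i))
  (hC : ∀ i, IsCurve (C i)) (hinj : Function.Injective C)
  (V : X.Opens) [Nonempty V] (hV : ∀ i, ((C i).support : Set X) ⊆ V)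

/-- The inclusion of a curve in an open. -/
noncomputable def jV (i : ι) (hVi : ((C i).support : Set X) ⊆ V) : (C i).subscheme ⟶ V.toScheme :=
  IsOpenImmersion.lift V.ι (C i).subschemeι (by
    rw [Scheme.Opens.range_ι]
    have := (C i).range_subschemeι
    rw [this]; exact hVi)

omit [IsIntegral X] [IsLocallyNoetherian X] [Fintype ι] [DecidableEq ι] [Nonempty V] in
theorem jV_ι (i : ι) (hVi : ((C i).support : Set X) ⊆ V) : jV V i hVi ≫ V.ι = (C i).subschemeι :=
  IsOpenImmersion.lift_fac _ _ _

include hV hinj in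
/-- A nonzero function on `V ⊇ ⋃ C_i` vanishing on the `C_i` gives an effective cycle with nonpositive rows. -/
theorem exists_rows (a : Γ(V.toScheme, ⊤)) (ha : a ≠ 0)
    (ha0 : ∀ i, ∀ v : V.toScheme, V.ι v = gp (hC i) → v ∉ V.toScheme.basicOpen a) :
    ∃ z : ι → ℕ, (∀ i, 0 < z i) ∧ (∀ j, ∑ i, (z i : ℤ) * gram k hE i j ≤ 0) ∧
      ∀ j, (∃ v w : V.toScheme, v ∉ V.toScheme.basicOpen a ∧ (∀ i, V.ι v ∉ (C i).support) ∧ v ⤳ w ∧
        V.ι w ∈ (C j).support) → ∑ i, (z i : ℤ) * gram k hE i j < 0 := by
  classical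
  have hcurve : ∀ i, ∃ v : V.toScheme, V.ι v = gp (hC i) := fun i =>
    ⟨⟨gp (hC i), hV i (gp_mem (hC i))⟩, rfl⟩
  choose ξ hξ using hcurve
  set P : ι → V.toScheme.IdealSheafData := fun i => (C i).comap V.ι with hP
  have hPE : ∀ i, BlowUp.IsEffCartierIdeal (P i) := fun i => isEff_comap_ι V (hE i)
  have hmemP : ∀ i (v : V.toScheme), v ∈ (P i).support ↔ V.ι v ∈ (C i).support := fun i v => by
    rw [hP, Scheme.IdealSheafData.support_comap]; rfl
  have hξP : ∀ i, ξ i ∈ (P i).support := fun i => by rw [hmemP, hξ]; exact gp_mem (hC i)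
  have hPint : ∀ i, IsIntegral (P i).subscheme := by
    intro i
    have := (hC i).integral
    have h1 : Nonempty (P i).subscheme := by
      have h2 := hξP i
      change ξ i ∈ ((P i).support : Set V.toScheme) at h2
      rw [← (P i).range_subschemeι] at h2
      obtain ⟨y, -⟩ := h2
      exact ⟨y⟩
    exact isIntegral_of_isOpenImmersion (((C i).comapIso V.ι).hom ≫ pullback.snd V.ι (C i).subschemeι)
  have hprime : ∀ i, ∀ J : V.toScheme.IdealSheafData, ξ i ∈ J.support → J ≤ P i := by
    intro i J hJ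
    have := hPint i
    refine Divis.EffIntegral.le_of_support_le fun y hy => ?_
    have h1 : V.ι y ∈ (C i).support := (hmemP i y).1 hy
    have h2 : gp (hC i) ⤳ V.ι y := by
      rw [specializes_iff_mem_closure, closure_gp]; exact h1
    have h3 : ξ i ⤳ y := V.ι.isOpenEmbedding.isInducing.specializes_iff.1 (by rw [hξ]; exact h2)
    exact h3.mem_closed J.support.isClosed hJ
  obtain ⟨d, J, hJE, hDJ, hξJ⟩ := Dix.IdealQuot.exists_prod_mul P hPE ξ hξP hprime (isEff_prin ha) Finset.univ
  have hsupp : ∀ v : V.toScheme, v ∉ V.toScheme.basicOpen a ↔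
      v ∈ (∏ i, P i ^ d i).support ∨ v ∈ J.support := by
    intro v
    rw [← mem_support_prin, hDJ, Scheme.IdealSheafData.support_mul]
    rfl
  have hrow : ∀ j, ∑ i, (d i : ℤ) * gram k hE i j =
      @degC k _ (C j).subscheme (overC k X (C j)) (pull (jV V j (hV j)) (ic J hJE)) := by
    intro j
    letI := overC k X (C j)
    have := isProper_sub k X (C j)
    have := (hC j).integral
    have hd : topologicalKrullDim (C j).subscheme = 1 := (dim_sub X (C j)).trans (hC j).dim
    have h1 : (1 : Pic V.toScheme) = (∏ i, ic (P i) (hPE i) ^ d i) * ic J hJE := by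
      rw [← ic_prin ha, ← ic_prod_pow Finset.univ P hPE d, ← ic_mul (isEff_prod_pow Finset.univ P hPE d) hJE]
      exact ic_congr _ _ hDJ
    have h2 := congrArg (fun c => degC k (C j).subscheme (pull (jV V j (hV j)) c)) h1
    beta_reduce at h2
    rw [map_one, degC_one, map_mul, degC_mul k _ hd, map_prod, degC_prod k _ hd] at h2
    have h3 : ∑ i, degC k (C j).subscheme (pull (jV V j (hV j)) (ic (P i) (hPE i) ^ d i)) =
        - ∑ i, (d i : ℤ) * gram k hE i j := by
      rw [← Finset.sum_neg_distrib]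
      refine Finset.sum_congr rfl fun i _ => ?_
      rw [map_pow, degC_pow k _ hd]
      have h4 : ic (P i) (hPE i) = pull V.ι (ic (C i) (hE i)) := (pull_ic V.ι (hE i) (hPE i)).symm
      rw [h4, ← pull_comp, jV_ι, ← degOn_eq_degC, degOn_ic_eq_neg_gram, gram_comm]
      ring
    rw [h3] at h2
    linarith
  have hgen : ∀ j, haveI := (hC j).integral; (jV V j (hV j)) (genericPoint (C j).subscheme) = ξ j := by
    intro j
    have := (hC j).integral
    apply V.ι.isOpenEmbedding.injective
    rw [hξ j, ← Scheme.Hom.comp_apply, jV_ι]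
    rfl
  refine ⟨d, fun i => ?_, fun j => ?_, fun j ⟨v, w, hv, hvC, hvw, hw⟩ => ?_⟩
  · rcases (hsupp (ξ i)).1 (ha0 i (ξ i) (hξ i)) with h | h
    · obtain ⟨j, -, hj, hj'⟩ := Dix.IdealQuot.support_prod P Finset.univ d _ h
      rw [hmemP, hξ] at hj'
      have : j = i := by
        by_contra hne
        exact gp_notMem_of_ne hC hinj hne hj'
      rw [this] at hj
      exact Nat.pos_of_ne_zero hj
    · exact (hξJ i (Finset.mem_univ i) h).elim
  · rw [hrow j]
    letI := overC k X (C j)
    have := isProper_sub k X (C j)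
    have := (hC j).integral
    have hd : topologicalKrullDim (C j).subscheme = 1 := (dim_sub X (C j)).trans (hC j).dim
    exact degC_pull_ic_nonpos k _ hd _ hJE (by rw [hgen j]; exact hξJ j (Finset.mem_univ j))
  · rw [hrow j]
    letI := overC k X (C j)
    have := isProper_sub k X (C j)
    have := (hC j).integral
    have hd : topologicalKrullDim (C j).subscheme = 1 := (dim_sub X (C j)).trans (hC j).dim
    have hvJ : v ∈ J.support := by
      rcases (hsupp v).1 hv with h | h
      · obtain ⟨i, -, -, hi⟩ := Dix.IdealQuot.support_prod P Finset.univ d _ h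
        exact (hvC i ((hmemP i v).1 hi)).elim
      · exact h
    have hwJ : w ∈ J.support := hvw.mem_closed J.support.isClosed hvJ
    have h1 : V.ι w ∈ ((C j).support : Set X) := hw
    rw [← (C j).range_subschemeι] at h1
    obtain ⟨y, hy⟩ := h1
    refine degC_pull_ic_neg k _ hd _ hJE (by rw [hgen j]; exact hξJ j (Finset.mem_univ j)) y ?_
    have h2 : (jV V j (hV j)) y = w := by
      apply V.ι.isOpenEmbedding.injective
      rw [← Scheme.Hom.comp_apply, jV_ι]
      exact hy
    rw [h2]; exact hwJ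

include hV hinj hC in
/-- Negative definiteness from a local function. -/
theorem negDef_of_local (hconn : IsConn (gram k hE)) (a : Γ(V.toScheme, ⊤)) (ha : a ≠ 0)
    (ha0 : ∀ i, ∀ v : V.toScheme, V.ι v = gp (hC i) → v ∉ V.toScheme.basicOpen a)
    (hex : ∃ (j : ι) (v w : V.toScheme), v ∉ V.toScheme.basicOpen a ∧ (∀ i, V.ι v ∉ (C i).support) ∧ v ⤳ w ∧
        V.ι w ∈ (C j).support) : IsNegDef (gram k hE) := by
  obtain ⟨z, h1, h2, h3⟩ := exists_rows k hE hC hinj V hV a ha ha0
  obtain ⟨j, v, w, h4⟩ := hex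
  exact negDef_of_pos_vector (fun i j => gram_comm k hE i j) (fun i j => gram_nonneg k hE hC hinj i j) hconn
    (fun i => (z i : ℤ)) (fun i => by exact_mod_cast h1 i) h2 ⟨j, h3 j ⟨v, w, h4⟩⟩

end main

section conn

variable (k : Type u) [Field k] {X : Scheme.{u}} [X.Over (Spec (CommRingCat.of k))]
  [IsProper (X ↘ Spec (CommRingCat.of k))]
  {ι : Type*} [Fintype ι] [DecidableEq ι] {C : ι → X.IdealSheafData} (hE : ∀ i, BlowUp.IsEffCartierIdeal (C i))
  (hC : ∀ i, IsCurve (C i)) (hinj : Function.Injective C)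

include hinj hC in
/-- Connectedness of the union of the curves in terms of intersection numbers. -/
theorem isConn_of_isPreconnected (h : _root_.IsPreconnected (⋃ i, ((C i).support : Set X))) : IsConn (gram k hE) := by
  intro S hS hSc
  by_contra hcon
  push Not at hcon
  have hcl : ∀ T : Finset ι, IsClosed (⋃ i ∈ T, ((C i).support : Set X)) := fun T =>
    isClosed_biUnion_finset fun i _ => (C i).support.isClosed
  have hne : ∀ T : Finset ι, T.Nonempty →
      ((⋃ i, ((C i).support : Set X)) ∩ ⋃ i ∈ T, ((C i).support : Set X)).Nonempty := by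
    rintro T ⟨i, hi⟩
    exact ⟨gp (hC i), Set.mem_iUnion.2 ⟨i, gp_mem (hC i)⟩, Set.mem_biUnion hi (gp_mem (hC i))⟩
  have h1 := isPreconnected_closed_iff.1 h _ _ (hcl S) (hcl Sᶜ) (by
    intro x hx
    obtain ⟨i, hi⟩ := Set.mem_iUnion.1 hx
    by_cases hiS : i ∈ S
    · exact Or.inl (Set.mem_biUnion hiS hi)
    · exact Or.inr (Set.mem_biUnion (Finset.mem_compl.2 hiS) hi)) (hne S hS) (hne Sᶜ hSc)
  obtain ⟨x, -, hx1, hx2⟩ := h1
  obtain ⟨i, hi, hxi⟩ := Set.mem_iUnion₂.1 hx1
  obtain ⟨j, hj, hxj⟩ := Set.mem_iUnion₂.1 hx2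
  have hij : i ≠ j := by rintro rfl; exact Finset.mem_compl.1 hj hi
  exact Set.disjoint_left.1 ((gram_eq_zero_iff k hE hC hinj i j hij).1 (hcon i hi j hj)) hxi hxj

end conn

end K464.LocalNeg
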