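import Groth.Agent.Surf.K464.FibCurve
import Groth.Agent.Surf.K456.SecTriv
import Groth.Agent.Pic13.H557.GeoInt
import Groth.Agent.S3840
import Groth.Agent.S1025

/-!
# Invertible modules on a fibred surface which are trivial on the general fibre (K464)

`exists_pull`: let `f : X ⟶ B` be a proper flat surjective morphism of integral schemes, `B` a regular curve over a
field, with integral closed fibres. An invertible module which is trivial on the closed fibres over a nonempty open
set is a pullback from `B`.
-/

set_option autoImplicit false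
universe u
open CategoryTheory CategoryTheory.Limits AlgebraicGeometry Opposite TopologicalSpace

namespace K464.FibTriv

open Groth.Agent Groth.Agent.Grpsch.PicGrp Groth.Agent.Fga.PicMon Groth.Agent.Fdesc.LocGen
open K464.Base K464.Curves K464.DegCurve K464.Cohom K464.PtCurve K464.FibCurve

variable {X B : Scheme.{u}} [IsIntegral X] [IsIntegral B] (f : X ⟶ B) [IsProper f] [Flat f]
  [LocallyOfFinitePresentation f]

/-- The structure sheaf of a nonempty scheme has a nonzero section. -/
theorem exists_ne_zero (Y : Scheme.{u}) [Nonempty Y] : ∃ t : Γ(Coh.structureModule Y, ⊤), t ≠ 0 := by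
  refine ⟨(one ⊤ : Γ(Coh.structureModule Y, ⊤)), fun h => ?_⟩
  have : Nonempty (⊤ : Y.Opens) := ⟨⟨Classical.arbitrary Y, trivial⟩⟩
  have h1 : (1 : Γ(Y, ⊤)) = 0 :=
    (isGen_one (X := Y) ⊤).ext (a := 1) (b := 0) (by rw [h, smul_zero, smul_zero])
  exact one_ne_zero h1

omit [IsIntegral X] in
/-- An invertible module trivial on the closed fibres over an open set has sections on the generic fibre. -/
theorem one_le_betti [JacobsonSpace B] [Surjective f] {N : X.Modules} (hN : PicF.IsInvertible N) (U : B.Opens)
    (hU : (U : Set B).Nonempty) (htriv : ∀ b ∈ U, IsClosed ({b} : Set B) →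
      Nonempty ((Scheme.Modules.pullback (f.fiberι b)).obj N ≅ Coh.structureModule (f.fiber b))) :
    1 ≤ PerfAux.betti f N (genericPoint B) 0 := by
  by_contra hcon
  have hV := S1025.result f N (Ega3B.ChiFib.isFP_of_isInvertible hN) (Ega3B.ChiFib.isFlatOver_of_isInvertible f hN) 0 1
  have hη : genericPoint B ∈ {s : B | PerfAux.betti f N s 0 < 1} := not_le.1 hcon
  have hηU : genericPoint B ∈ U := by
    obtain ⟨x, hx⟩ := hU
    exact (genericPoint_specializes x).mem_open U.2 hx
  obtain ⟨z, ⟨hz1, hz2⟩, hz3⟩ := nonempty_inter_closedPoints (X := B)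
    (Z := (U : Set B) ∩ {s : B | PerfAux.betti f N s 0 < 1}) ⟨_, hηU, hη⟩ (U.2.inter hV).isLocallyClosed
  obtain ⟨e⟩ := htriv z hz1 hz3
  let _ : (f.fiber z).Over (Spec (CommRingCat.of (B.residueField z))) := ⟨f.fiberToSpecResidueField z⟩
  have hP : IsProper ((f.fiber z) ↘ Spec (CommRingCat.of (B.residueField z))) :=
    inferInstanceAs (IsProper (pullback.snd f (B.fromSpecResidueField z)))
  have h1 : PerfAux.betti f N z 0 =
      Module.finrank (B.residueField z) (Coh.HH (f.fiber z) (Coh.structureModule (f.fiber z)) 0) :=
    finrank_congr (B.residueField z) e 0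
  have hz2' : PerfAux.betti f N z 0 < 1 := hz2
  rw [h1] at hz2'
  have hne : Nonempty (f.fiber z) := by
    obtain ⟨x, hx⟩ := f.surjective z
    have : x ∈ Set.range (f.fiberι z) := by rw [f.range_fiberι]; exact hx
    obtain ⟨y, -⟩ := this
    exact ⟨y⟩
  have hfin := finite_HH (B.residueField z) (isCoh_unit (B.residueField z) (f.fiber z)) 0
  obtain ⟨t, ht⟩ := exists_ne_zero (f.fiber z)
  have hnt := K456.SecTriv.nontrivial_of_ne_zero ht
  have := Module.finrank_pos (R := B.residueField z) (M := Coh.HH (f.fiber z) (Coh.structureModule (f.fiber z)) 0)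
  omega

/-- An invertible module trivial on the closed fibres over an open set is trivial on the generic fibre. -/
theorem generic_trivial [JacobsonSpace B] [Surjective f] {N : X.Modules} (hN : PicF.IsInvertible N) (U : B.Opens)
    (hU : (U : Set B).Nonempty) (htriv : ∀ b ∈ U, IsClosed ({b} : Set B) →
      Nonempty ((Scheme.Modules.pullback (f.fiberι b)).obj N ≅ Coh.structureModule (f.fiber b))) :
    Nonempty ((Scheme.Modules.pullback (f.fiberι (genericPoint B))).obj N ≅
      Coh.structureModule (f.fiber (genericPoint B))) := by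
  have hdom : IsDominant f := inferInstance
  have hint : IsIntegral (f.fiber (genericPoint B)) :=
    Pic13.H557.GeoInt.isIntegral_genericFiber f (map_generic f)
  have hP : IsProper (f.fiberToSpecResidueField (genericPoint B)) :=
    inferInstanceAs (IsProper (pullback.snd f (B.fromSpecResidueField (genericPoint B))))
  have hfield := isField_of_universallyClosed (B.residueField (genericPoint B))
    (f.fiberToSpecResidueField (genericPoint B))
  obtain ⟨N', hN', ⟨e'⟩⟩ := exists_inverse hN
  have key : ∀ {L : X.Modules}, PicF.IsInvertible L → 1 ≤ PerfAux.betti f L (genericPoint B) 0 →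
      ∃ s : Γ((Scheme.Modules.pullback (f.fiberι (genericPoint B))).obj L, ⊤), s ≠ 0 := by
    intro L hL h
    refine K456.SecTriv.exists_ne_zero_of_nontrivial ?_
    by_contra hcon
    rw [not_nontrivial_iff_subsingleton] at hcon
    have h2 : Subsingleton (PerfAux.fiberH f L (genericPoint B) 0) := hcon
    have h3 : PerfAux.betti f L (genericPoint B) 0 = 0 := Module.finrank_zero_of_subsingleton
    omega
  have hpull : ∀ {Y : Scheme.{u}} (g : Y ⟶ X), mk _ (isInvertible_pullback g hN) * mk _ (isInvertible_pullback g hN') = 1 := by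
    intro Y g
    rw [← pull_mk g hN, ← pull_mk g hN', ← map_mul]
    have : mk N hN * mk N' hN' = 1 := by rw [mk_mul_mk, mk_eq_one_iff]; exact ⟨e'⟩
    rw [this, map_one]
  have htriv' : ∀ b ∈ U, IsClosed ({b} : Set B) →
      Nonempty ((Scheme.Modules.pullback (f.fiberι b)).obj N' ≅ Coh.structureModule (f.fiber b)) := by
    intro b hb hb'
    have h1 := htriv b hb hb'
    rw [← mk_eq_one_iff (isInvertible_pullback (f.fiberι b) hN)] at h1
    have h2 := hpull (f.fiberι b)
    rw [h1, one_mul, mk_eq_one_iff] at h2
    exact h2
  obtain ⟨s, hs⟩ := key hN (one_le_betti f hN U hU htriv)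
  obtain ⟨t, ht⟩ := key hN' (one_le_betti f hN' U hU htriv')
  have h := K456.SecTriv.eq_one_of_sections hfield (isInvertible_pullback (f.fiberι (genericPoint B)) hN)
    (isInvertible_pullback (f.fiberι (genericPoint B)) hN') (hpull _) s hs t ht
  rw [mk_eq_one_iff] at h
  exact h

/-- Such a module is a pullback from the base curve. -/
theorem exists_pull (k : Type u) [Field k] (g : B ⟶ Spec (CommRingCat.of k)) [LocallyOfFiniteType g] [Surjective f]
    (hB : topologicalKrullDim B = 1) (hreg : ∀ b : B, IsRegularLocalRing (B.presheaf.stalk b))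
    (hfib : ∀ b : B, IsClosed ({b} : Set B) → IsIntegral (f.fiber b))
    {N : X.Modules} (hN : PicF.IsInvertible N) (U : B.Opens)
    (hU : (U : Set B).Nonempty) (htriv : ∀ b ∈ U, IsClosed ({b} : Set B) →
      Nonempty ((Scheme.Modules.pullback (f.fiberι b)).obj N ≅ Coh.structureModule (f.fiber b))) :
    ∃ (M : B.Modules) (hM : PicF.IsInvertible M), pull f (mk M hM) = mk N hN := by
  have hBn : IsLocallyNoetherian B := LocallyOfFiniteType.isLocallyNoetherian g
  have hXn : IsLocallyNoetherian X := LocallyOfFiniteType.isLocallyNoetherian f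
  have hJ : JacobsonSpace B := LocallyOfFiniteType.jacobsonSpace g
  have hnorm : Pi1.IsNormalScheme B := fun b => by
    have := hreg b
    have h1 : IsDomain (B.presheaf.stalk b) := inferInstance
    have := K456.FlatCurve.isPrincipalIdealRing_of_regular (B.presheaf.stalk b)
      ((CurvesA.DimOne.ringKrullDim_stalk_le B b).trans hB.le)
    exact ⟨h1, inferInstance⟩
  obtain ⟨M, hM, he⟩ := S3840.result f (Or.inl inferInstance) hnorm (fun y hy => by
      refine hfib y (isClosed_of_ne hB ?_)
      rintro rfl
      have h1 : ringKrullDim (B.presheaf.stalk (genericPoint B)) = 0 := ringKrullDim_eq_zero_of_field B.functionField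
      rw [h1] at hy
      exact zero_ne_one hy) N hN (fun η hη => by
      have h1 : η = genericPoint B := (hη _ (genericPoint_specializes η)).symm
      subst h1
      exact generic_trivial f hN U hU htriv)
  exact ⟨M, hM, by rw [pull_mk, mk_eq_iff]; exact he⟩

end K464.FibTriv
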