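import Groth.Agent.Surf.K463.SPS
import Groth.Agent.Surf.K456.AmpleEx
import Groth.Agent.S7307
import Groth.Agent.S7308
import Groth.Agent.S7315
import Groth.Agent.S9679
import Groth.Agent.CurvesC.RegNormal

/-!
# Contraction sequences of smooth proper surfaces (K464)

`k` algebraically closed.

* `contraction`: the target of a contraction of a smooth proper surface is a smooth proper surface; `hom_ext`.
* `seq_down`, `seq_up`: the target (source) of a contraction sequence of a smooth proper surface is one; `seq_bir`.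
* `isBir_of_comp_left`; `exists_open`: a birational morphism is an isomorphism over a nonempty open.
-/

set_option autoImplicit false
set_option linter.unusedSectionVars false
universe u
open CategoryTheory CategoryTheory.Limits AlgebraicGeometry Opposite TopologicalSpace

namespace K464.ConSeq

open Groth.Agent Groth.Agent.Dix.ExcPts Groth.Agent.Dix.PointIdeal K463.Bir
open Groth.Agent.Grpsch.PicGrp K464.Base

local notation "Sp" k:max => Spec (CommRingCat.of k)

variable {k : Type u} [Field k]

/-- Points off the centre of a point modification. -/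
theorem exists_off {Y Z : Scheme.{u}} (b : Y ⟶ Z) (y : Z) (hy : IsClosed ({y} : Set Z))
    (hi : IsIso (b ∣_ K455.BlowDim.compl y hy)) (z : Z) (hz : z ≠ y) :
    ∃ w : Y, b w = z ∧ IsIso (b.stalkMap w) := by
  obtain ⟨w, hw⟩ := Dix.BirIso.surj b (K455.BlowDim.compl y hy) hi z hz
  refine ⟨w, hw, Dix.BirIso.isIso_stalkMap b (K455.BlowDim.compl y hy) hi w ?_⟩
  rw [hw]
  exact hz

/-- The target of a contraction of a smooth proper surface is a smooth proper surface. -/
theorem contraction [IsAlgClosed k] {E Y Z : Scheme.{u}} {s : Y ⟶ Sp k} (hs : SPS k s) (ι : E ⟶ Y)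
    [IsClosedImmersion ι] (hE : Models.IsExcCurve ι) (b : Y ⟶ Z) (hb : Models.IsContractionOf ι b) :
    ∃ t : Z ⟶ Sp k, b ≫ t = s ∧ SPS k t := by
  let _ : Y.Over (Sp k) := ⟨s⟩
  have := hs.int
  have : IsProper (Y ↘ (Sp k)) := hs.proper
  have : Smooth (Y ↘ (Sp k)) := hs.smooth
  have := hs.noeth
  obtain ⟨L, hL⟩ := K456.AmpleEx.exists_ample k Y hs.dim
  obtain ⟨M, hM, hMe⟩ := exists_mk (ic ι.ker hE.1)⁻¹
  have hinv : ClSub.IsInverseOf M (ClSub.idealMod ι.ker) := by
    have h7 : mk M hM * ic ι.ker hE.1 = 1 := by rw [← hMe, inv_mul_cancel]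
    unfold ic at h7
    rw [mk_mul_mk, mk_eq_one_iff] at h7
    exact h7
  have := hs.proper
  obtain ⟨X', b', g', hb', hbg, hg', -⟩ := S7315.result k s L hL ι hE M hinv
  obtain ⟨e, he, -⟩ := S7308.result ι hE b' hb' b hb
  have he' : b' ≫ e.hom = b := he
  have hbt : b ≫ e.inv ≫ g' = s := by
    rw [← he', Category.assoc, e.hom_inv_id_assoc, hbg]
  obtain ⟨hN, hbp, y, hy, hr, hreg, hd, hbl⟩ := hb
  refine ⟨e.inv ≫ g', hbt, ?_⟩
  have hiso := K455.BlowDim.isIso_restrict b y hy hbl
  -- regularity
  have hregZ : ∀ z : Z, IsRegularLocalRing (Z.presheaf.stalk z) := by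
    intro z
    by_cases hz : z = y
    · rw [hz]; exact hreg
    · obtain ⟨w, rfl, hw⟩ := exists_off b y hy hiso z hz
      have := hs.isSurf.regular w
      exact IsRegularLocalRing.of_ringEquiv (asIso (b.stalkMap w)).commRingCatIsoToRingEquiv.symm
  have hsurj : Function.Surjective b := by
    intro z
    by_cases hz : z = y
    · have h1 : z ∈ Set.range ((ι ≫ b).base : E → Z) := by rw [hr, hz]; rfl
      obtain ⟨e₀, he₀⟩ := h1
      exact ⟨ι e₀, by rw [← Scheme.Hom.comp_apply]; exact he₀⟩
    · obtain ⟨w, hw, -⟩ := exists_off b y hy hiso z hz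
      exact ⟨w, hw⟩
  have hirr : IrreducibleSpace Z := by
    have h1 : IsIrreducible (Set.univ : Set Z) := by
      rw [← hsurj.range_eq, ← Set.image_univ]
      exact (IrreducibleSpace.isIrreducible_univ Y).image b b.continuous.continuousOn
    have h2 := Subtype.irreducibleSpace h1
    exact (Homeomorph.Set.univ Z).irreducibleSpace_iff.mp h2
  have hred : IsReduced Z := by
    have : ∀ z : Z, _root_.IsReduced (Z.presheaf.stalk z) := fun z => by
      have := hregZ z
      have := CurvesC.RegNormal.isDomain (Z.presheaf.stalk z)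
      infer_instance
    exact isReduced_of_isReduced_stalk Z
  have hint : IsIntegral Z := isIntegral_of_irreducibleSpace_of_isReduced Z
  have hp : IsProper (e.inv ≫ g') := inferInstance
  refine ⟨hint, ?_, hp, K455.RelDim.smooth_of_regular k _ hregZ⟩
  have hdimle : ∀ w : Y, ringKrullDim (Y.presheaf.stalk w) ≤ 2 := fun w => by
    rw [← hs.dim, Dix.ContractSurf.topologicalKrullDim_eq Y]
    exact le_iSup (fun z : Y => ringKrullDim (Y.presheaf.stalk z)) w
  rw [Dix.ContractSurf.topologicalKrullDim_eq Z]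
  apply le_antisymm
  · refine iSup_le fun z => ?_
    by_cases hz : z = y
    · rw [hz, hd]
    · obtain ⟨w, rfl, hw⟩ := exists_off b y hy hiso z hz
      rw [ringKrullDim_eq_of_ringEquiv (asIso (b.stalkMap w)).commRingCatIsoToRingEquiv]
      exact hdimle w
  · rw [← hd]
    exact le_iSup (fun z : Z => ringKrullDim (Z.presheaf.stalk z)) y

/-- A contraction is an epimorphism for morphisms to the spectrum of a field. -/
theorem hom_ext {E Y Z : Scheme.{u}} [IsNoetherian Y] (ι : E ⟶ Y) [IsClosedImmersion ι]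
    (hE : Models.IsExcCurve ι) (b : Y ⟶ Z) (hb : Models.IsContractionOf ι b) (t t' : Z ⟶ Sp k)
    (h : b ≫ t = b ≫ t') : t = t' := by
  obtain ⟨hN, hbp, y, hy, hr, -⟩ := id hb
  have hne : Nonempty E := by
    have h1 : y ∈ Set.range ((ι ≫ b).base : E → Z) := by rw [hr]; rfl
    obtain ⟨e₀, -⟩ := h1
    exact ⟨e₀⟩
  obtain ⟨e₀⟩ := hne
  have h1 : Set.range ((ι ≫ b ≫ t).base : E → Sp k) = {(ι ≫ b ≫ t) e₀} := by
    apply Set.Subset.antisymm
    · rintro _ ⟨x, rfl⟩
      have : Subsingleton (Sp k) := inferInstanceAs (Subsingleton (PrimeSpectrum k))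
      exact Subsingleton.elim _ _
    · rintro _ rfl
      exact ⟨e₀, rfl⟩
  obtain ⟨ψ, -, hu⟩ := S7307.result ι hE b hb (b ≫ t) _ h1
  rw [hu t rfl, hu t' h.symm]

/-- The target of a contraction sequence. -/
theorem seq_down [IsAlgClosed k] {Y X : Scheme.{u}} {f : Y ⟶ X} (hf : Models.IsContractionSeq f) :
    ∀ {s : Y ⟶ Sp k}, SPS k s → ∃ t : X ⟶ Sp k, f ≫ t = s ∧ SPS k t ∧ ∀ t' : X ⟶ Sp k, f ≫ t' = s → t' = t := by
  induction hf with
  | iso e =>
    intro s hs
    refine ⟨e.inv ≫ s, by simp, hs.of_iso e.symm rfl, ?_⟩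
    intro t' h
    rw [← h]; simp
  | step ι b r hι hE hb hr ih =>
    intro s hs
    have := hs.noeth
    obtain ⟨z, hz, hz'⟩ := contraction hs ι hE b hb
    obtain ⟨t, ht, ht', hu⟩ := ih hz'
    refine ⟨t, by rw [Category.assoc, ht, hz], ht', fun t' h => hu t' ?_⟩
    refine hom_ext ι hE b hb _ _ ?_
    rw [hz, ← h, Category.assoc]

/-- The source of a contraction sequence. -/
theorem seq_up [IsAlgClosed k] {Y X : Scheme.{u}} {f : Y ⟶ X} (hf : Models.IsContractionSeq f) :
    ∀ {t : X ⟶ Sp k}, SPS k t → SPS k (f ≫ t) := by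
  induction hf with
  | iso e => intro t ht; exact ht.of_iso e rfl
  | step ι b r hι hE hb hr ih =>
    intro t ht
    obtain ⟨hN, hbp, y, hy, hr', hreg, hd, hbl⟩ := hb
    have := (ih ht).blowUp y hy b hbl
    rwa [Category.assoc]

theorem seq_bir [IsAlgClosed k] {Y X : Scheme.{u}} {f : Y ⟶ X} (hf : Models.IsContractionSeq f) :
    ∀ {t : X ⟶ Sp k} (_ : SPS k t) [IsIntegral Y] [IsIntegral X], IsBir f := by
  induction hf with
  | iso e => intro t ht _ _; exact K463.Bir.isBir_of_isIso e.hom
  | step ι b r hι hE hb hr ih =>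
    intro t ht _ _
    obtain ⟨hN, hbp, y, hy, hr', hreg, hd, hbl⟩ := hb
    have hz := seq_up hr ht
    have := hz.int
    exact K463.Bir.isBir_comp (isBir_blowUp hz y hy b hbl) (ih ht)

/-- The second factor of a birational morphism with birational first factor. -/
theorem isBir_of_comp_left {Y Z X : Scheme.{u}} [IsIntegral Y] [IsIntegral Z] [IsIntegral X] (b : Y ⟶ Z) (ψ : Z ⟶ X)
    (hb : IsBir b) (hbψ : IsBir (b ≫ ψ)) (hψ : IsProper ψ) : IsBir ψ := by
  refine ⟨hψ, ?_, ?_⟩
  · rw [← hb.gen, ← Scheme.Hom.comp_apply, hbψ.gen]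
  · have h1 := hbψ.bir
    rw [Scheme.Hom.stalkMap_comp] at h1
    have h2 := hb.bir
    have h3 : IsIso (ψ.stalkMap (b (genericPoint Y))) :=
      @IsIso.of_isIso_comp_right _ _ _ _ _ _ _ h2 h1
    rwa [hb.gen] at h3

/-- A birational morphism is an isomorphism over a nonempty open. -/
theorem exists_open {Y X : Scheme.{u}} [IsIntegral Y] [IsIntegral X] (f : Y ⟶ X) (hf : IsBir f) :
    ∃ V : X.Opens, Dense (V : Set X) ∧ IsIso (f ∣_ V) := by
  have := hf.proper
  have hcY : irreducibleComponents Y = {Set.univ} := irreducibleComponents_eq_singleton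
  have hcX : irreducibleComponents X = {Set.univ} := irreducibleComponents_eq_singleton
  have hgY : ∀ y : Y, closure {y} ∈ irreducibleComponents Y ↔ y = genericPoint Y := fun y => by
    rw [hcY, Set.mem_singleton_iff]
    constructor
    · intro h
      exact (show IsGenericPoint y Set.univ from h).eq (genericPoint_spec Y)
    · rintro rfl
      exact genericPoint_spec Y
  have hgX : ∀ y : X, closure {y} ∈ irreducibleComponents X ↔ y = genericPoint X := fun y => by
    rw [hcX, Set.mem_singleton_iff]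
    constructor
    · intro h
      exact (show IsGenericPoint y Set.univ from h).eq (genericPoint_spec X)
    · rintro rfl
      exact genericPoint_spec X
  refine S9679.result f (by rw [hcY]; exact Set.finite_singleton _) (by rw [hcX]; exact Set.finite_singleton _) ?_ ?_
    (Or.inr inferInstance) (Or.inl ⟨inferInstance, inferInstance⟩)
  · refine ⟨?_, ?_, ?_⟩
    · intro y hy
      have hy' := (hgY y).1 hy
      change closure {f y} ∈ irreducibleComponents X
      rw [hgX, hy', hf.gen]
    · intro y hy y' hy' _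
      rw [(hgY y).1 hy, (hgY y').1 hy']
    · intro x hx
      refine ⟨genericPoint Y, (hgY _).2 rfl, ?_⟩
      rw [(hgX x).1 hx]
      exact hf.gen
  · intro y hy
    rw [(hgY y).1 hy]
    exact hf.bir

end K464.ConSeq
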